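/-
Special unitary groups of dimension at least four are generated by transvections.
-/
import Cfsg.Agent.Lib.ClassicalMax.UnitGen
set_option autoImplicit false
set_option linter.unusedSectionVars false

namespace CfsgLib.ClassicalMax.Unit

open Matrix Cfsg.Geo

variable {ι : Type} [Fintype ι] [DecidableEq ι] {F : Type*} [Field F] [Fintype F] [DecidableEq F]
  {σ : F ≃+* F} {f : (ι → F) → (ι → F) → F}

variable (hf : IsUnitaryForm σ f)

include hf

/-- The common orthogonal of two vectors, one of them anisotropic, is not totally singular. -/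
lemma exists_anisotropic_orth {W : Submodule F (ι → F)} (hW : IsNondegenerateOn f W) {b b' : ι → F}
    (hb : b ∈ W) (hb' : b' ∈ W) (hbn : f b b ≠ 0) (L : W →ₗ[F] F × F)
    (hL : ∀ x : W, L x = (f x b, f x b')) (hdim : 2 ≤ Module.finrank F (LinearMap.ker L)) :
    ∃ u ∈ (LinearMap.ker L).map W.subtype, f u u ≠ 0 := by
  by_contra hcon
  push Not at hcon
  set K := (LinearMap.ker L).map W.subtype with hK
  have hKW : K ≤ W := Submodule.map_subtype_le _ _
  have horth : ∀ x ∈ K, f x b = 0 ∧ f x b' = 0 := by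
    rintro _ ⟨x, hx, rfl⟩
    have := hL x
    rw [LinearMap.mem_ker.1 hx] at this
    exact ⟨(congrArg Prod.fst this).symm, (congrArg Prod.snd this).symm⟩
  have hts : ∀ x ∈ K, ∀ y ∈ K, f x y = 0 := by
    intro x hx y hy
    by_contra hxy
    obtain ⟨r, hr⟩ : ∃ r, σ r ≠ r := by
      by_contra h
      push Not at h
      exact hf.ne_refl (RingEquiv.ext h)
    have h : ∀ l : F, σ l * f x y + l * σ (f x y) = 0 := fun l => by
      have h' := hcon _ (K.add_mem hx (K.smul_mem l hy))
      rw [hf.add_left, add_right hf, add_right hf, hf.smul_left, hf.smul_left, smul_right hf,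
        smul_right hf, hcon x hx, hcon y hy, hf.herm y x] at h'
      linear_combination h'
    have h1 := h 1
    rw [map_one, one_mul, one_mul] at h1
    have : (σ r - r) * f x y = 0 := by linear_combination h r - r * h1
    exact hxy ((mul_eq_zero.1 this).resolve_left (sub_ne_zero.2 hr))
  have hbK : b ∉ K := fun h => hbn (horth b h).1
  have hsing : ∀ x ∈ K ⊔ Submodule.span F {b}, ∀ y ∈ K, f x y = 0 := by
    intro x hx y hy
    obtain ⟨k, hk, l, hl, rfl⟩ := Submodule.mem_sup.1 hx
    obtain ⟨c, rfl⟩ := Submodule.mem_span_singleton.1 hl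
    rw [hf.add_left, hf.smul_left, hts k hk y hy, eq_zero_comm hf (horth y hy).1, mul_zero, add_zero]
  have hsub : K ⊔ Submodule.span F {b} ≤ W :=
    sup_le hKW ((Submodule.span_singleton_le_iff_mem _ _).2 hb)
  have hK2 : 2 ≤ Module.finrank F K := by rwa [hK, Submodule.finrank_map_subtype_eq]
  -- `K` pairs non-degenerately with a complement of `K ⊔ ⟨b⟩`, whose dimension is too small
  let P : W →ₗ[F] (Fin (Module.finrank F K) → F) :=
    LinearMap.pi fun i => (formL hf (Module.finBasis F K i : ι → F)).comp W.subtype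
  have hsurj : Function.Surjective P := by
    intro φ
    let K' : Submodule F W := Submodule.comap W.subtype K
    let e : K' ≃ₗ[F] K := Submodule.comapSubtypeEquivOfLe hKW
    obtain ⟨ψ, hψ⟩ := LinearMap.exists_extend
      (((Module.finBasis F K).constr F fun i => σ (φ i)).comp (e : K' →ₗ[F] K))
    obtain ⟨y, hy, hy'⟩ := exists_riesz hf hW ψ
    refine ⟨⟨y, hy⟩, funext fun i => ?_⟩
    have hbi : (Module.finBasis F K i : ι → F) ∈ W := hKW (Module.finBasis F K i).2
    have h1 : ψ ⟨_, hbi⟩ = σ (φ i) := by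
      have := congrArg (fun t : K' →ₗ[F] F => t ⟨⟨_, hbi⟩, (Module.finBasis F K i).2⟩) hψ
      simp only [LinearMap.comp_apply, Submodule.subtype_apply] at this
      rw [this, show (e : K' →ₗ[F] K) ⟨⟨_, hbi⟩, (Module.finBasis F K i).2⟩
        = Module.finBasis F K i from rfl, Module.Basis.constr_basis]
    change f y (Module.finBasis F K i : ι → F) = φ i
    rw [hf.herm, hy' ⟨_, hbi⟩, h1, hf.involutive]
  have hle : Submodule.comap W.subtype (K ⊔ Submodule.span F {b}) ≤ LinearMap.ker P := fun x hx =>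
    LinearMap.mem_ker.2 (funext fun i => hsing _ hx _ (Module.finBasis F K i).2)
  have h1 := Submodule.finrank_mono hle
  have h2 := LinearMap.finrank_range_add_finrank_ker P
  rw [LinearMap.range_eq_top.2 hsurj, finrank_top, Module.finrank_fintype_fun_eq_card,
    Fintype.card_fin] at h2
  have h3 : K < K ⊔ Submodule.span F {b} := lt_of_le_of_ne le_sup_left fun e =>
    hbK (e ▸ Submodule.mem_sup_right (Submodule.mem_span_singleton_self b))
  have h4 := Submodule.finrank_lt_finrank_of_lt h3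
  rw [(Submodule.comapSubtypeEquivOfLe hsub).finrank_eq] at h1
  have h5 := LinearMap.finrank_range_add_finrank_ker L
  have h6 := Submodule.finrank_le (LinearMap.range L)
  simp only [Module.finrank_prod, Module.finrank_self] at h6
  have h7 : Module.finrank F K = Module.finrank F (LinearMap.ker L) :=
    Submodule.finrank_map_subtype_eq _ _
  omega

/-- A vector with prescribed pairings with two independent vectors and prescribed norm. -/
lemma exists_prescribed_four {W : Submodule F (ι → F)} (hW : IsNondegenerateOn f W)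
    (hdim : 4 ≤ Module.finrank F W) {b b' : ι → F} (hb : b ∈ W) (hb' : b' ∈ W)
    (hli : LinearIndependent F ![b, b']) (hbn : f b b ≠ 0) (α β : F) {s : F} (hs : σ s = s) :
    ∃ z ∈ W, f b z = α ∧ f b' z = β ∧ f z z = s := by
  let v : Fin 2 → W := ![⟨b, hb⟩, ⟨b', hb'⟩]
  have hv : LinearIndependent F v := by
    apply LinearIndependent.of_comp W.subtype
    convert hli using 1
    funext i
    fin_cases i <;> rfl
  obtain ⟨φ, hφ⟩ := LinearMap.exists_extend ((Module.Basis.span hv).constr F ![α, β])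
  obtain ⟨z₀, hz₀, hz⟩ := exists_riesz hf hW φ
  have hφv : ∀ i, φ (v i) = ![α, β] i := fun i => by
    have := congrArg (fun t => t (Module.Basis.span hv i)) hφ
    rw [LinearMap.comp_apply, Module.Basis.constr_basis] at this
    rw [← this, Submodule.subtype_apply, Module.Basis.span_apply]
  let L : W →ₗ[F] (F × F) :=
    ((formL hf b).prod (formL hf b')).comp W.subtype
  have h := LinearMap.finrank_range_add_finrank_ker L
  have h3 := Submodule.finrank_le (LinearMap.range L)
  simp only [Module.finrank_prod, Module.finrank_self] at h3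
  have hmap : Module.finrank F ((LinearMap.ker L).map W.subtype) = Module.finrank F (LinearMap.ker L) :=
    Submodule.finrank_map_subtype_eq _ _
  obtain ⟨u, hu, hu0⟩ : ∃ u ∈ (LinearMap.ker L).map W.subtype, f u u ≠ 0 :=
    exists_anisotropic_orth hf hW hb hb' hbn L (fun x => rfl) (by omega)
  obtain ⟨n₁, hn₁⟩ := exists_norm_eq hf.ne_refl hf.involutive (s := (f u u)⁻¹)
    (by rw [map_inv₀, self_fixed hf])
  obtain ⟨k, hk, hkk⟩ : ∃ k ∈ (LinearMap.ker L).map W.subtype, f k k = 1 :=
    ⟨n₁ • u, Submodule.smul_mem _ _ hu, by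
      rw [hf.smul_left, smul_right hf, ← mul_assoc, hn₁, inv_mul_cancel₀ hu0]⟩
  obtain ⟨k, hk', rfl⟩ := hk
  simp only [SetLike.mem_coe, L, LinearMap.mem_ker, LinearMap.comp_apply, LinearMap.prod_apply,
    Function.prod, Prod.mk_eq_zero, formL_apply, Submodule.subtype_apply] at hk' hkk
  set g₀ := f z₀ (k : ι → F) with hg₀
  obtain ⟨r, hr⟩ := exists_norm_eq hf.ne_refl hf.involutive (s := s - f z₀ z₀ + g₀ * σ g₀)
    (by rw [map_add, map_sub, map_mul, hs, self_fixed hf, hf.involutive, mul_comm])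
  refine ⟨z₀ + (r - g₀) • (k : ι → F), W.add_mem hz₀ (W.smul_mem _ k.2), ?_, ?_, ?_⟩
  · rw [add_right hf, smul_right hf, eq_zero_comm hf hk'.1, mul_zero, add_zero]
    exact (hz ⟨b, hb⟩).trans (hφv 0)
  · rw [add_right hf, smul_right hf, eq_zero_comm hf hk'.2, mul_zero, add_zero]
    exact (hz ⟨b', hb'⟩).trans (hφv 1)
  · rw [hf.add_left, add_right hf, add_right hf, hf.smul_left, hf.smul_left, smul_right hf,
      smul_right hf, hkk, hf.herm (k : ι → F) z₀, ← hg₀, map_sub]
    linear_combination hr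

lemma exists_tvGroup_mulVec_four {W : Submodule F (ι → F)} (hW : IsNondegenerateOn f W)
    (hdim : 4 ≤ Module.finrank F W) {b b' : ι → F} (hb : b ∈ W) (hb' : b' ∈ W) (hb0 : b ≠ 0)
    (hb'0 : b' ≠ 0) (hs : f b b = f b' b') (hbn : f b b ≠ 0) :
    ∃ t ∈ tvGroup hf W, (t : Matrix ι ι F) *ᵥ b = b' := by
  obtain ⟨τ, hτ0, hτ⟩ := exists_trace_zero hf.ne_refl hf.involutive
  set s := f b b with hsdef
  have hσs : σ s = s := self_fixed hf b
  -- the independent case
  have indep : ∀ b b' : ι → F, b ∈ W → b' ∈ W → f b b = s → f b' b' = s →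
      LinearIndependent F ![b, b'] → ∃ t ∈ tvGroup hf W, (t : Matrix ι ι F) *ᵥ b = b' := by
    intro b b' hb hb' h1 h2 hli
    obtain ⟨z, hz, hz1, hz2, hz3⟩ := exists_prescribed_four hf hW hdim hb hb' hli (h1.symm ▸ hbn) (s + τ) (s + τ) hσs
    have hz1' : f z b = s - τ := by rw [hf.herm, hz1, map_add, hσs, hτ, sub_eq_add_neg]
    have hz2' : f z b' = s - τ := by rw [hf.herm, hz2, map_add, hσs, hτ, sub_eq_add_neg]
    obtain ⟨t₁, ht₁, e₁⟩ := exists_uTv_mulVec hf hb hz (h1.trans hz3.symm)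
      (by rw [sub_left hf, sub_right hf, sub_right hf, h1, hz3, hz1, hz1']; ring)
      (by rw [sub_right hf, hz1, h1, add_sub_cancel_left]; exact hτ0)
    obtain ⟨t₂, ht₂, e₂⟩ := exists_uTv_mulVec hf hz hb' (hz3.trans h2.symm)
      (by rw [sub_left hf, sub_right hf, sub_right hf, h2, hz3, hz2, hz2']; ring)
      (by rw [sub_right hf, hz2', hz3]; simpa using hτ0)
    exact ⟨t₂ * t₁, mul_mem ht₂ ht₁, by rw [gl_mulVec_mul, e₁, e₂]⟩
  by_cases hli : LinearIndependent F ![b, b']
  · exact indep b b' hb hb' rfl hs.symm hli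
  obtain ⟨p, hp, hpb⟩ : ∃ p ∈ W, p ∉ Submodule.span F {b} := by
    apply SetLike.not_le_iff_exists.1
    intro hle
    have := Submodule.finrank_mono hle
    rw [finrank_span_singleton hb0] at this
    omega
  have hbp : LinearIndependent F ![b, p] := by
    rw [LinearIndependent.pair_iff' hb0]
    exact fun a e => hpb (Submodule.mem_span_singleton.2 ⟨a, e⟩)
  obtain ⟨z, hz, hz1, -, hz3⟩ := exists_prescribed_four hf hW hdim hb hp hbp hbn (s + τ) 0 hσs
  have hbz : LinearIndependent F ![b, z] := by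
    rw [LinearIndependent.pair_iff' hb0]
    intro a e
    rw [← e, smul_right hf] at hz1
    rw [← e, hf.smul_left, smul_right hf] at hz3
    have e1 : a * (σ a * s) = s := hz3
    have e2 : a * s = s - τ := by
      have := congrArg σ hz1
      rw [map_mul, map_add, hf.involutive, hσs, hτ, ← sub_eq_add_neg] at this
      exact this
    have e3 : σ a * s = s + τ := hz1
    apply hτ0
    refine mul_self_eq_zero.1 ?_
    linear_combination -s * e1 + σ a * s * e2 + (s - τ) * e3
  obtain ⟨l, hl⟩ : ∃ l : F, l • b = b' := by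
    rw [LinearIndependent.pair_iff' hb0] at hli
    push Not at hli
    exact hli
  have hl0 : l ≠ 0 := fun e => hb'0 (by rw [← hl, e, zero_smul])
  have hzb' : LinearIndependent F ![z, b'] := by
    have hz0 : z ≠ 0 := fun e => by
      have := LinearIndependent.ne_zero 1 hbz
      exact this e
    rw [LinearIndependent.pair_iff' hz0]
    intro a e
    rw [LinearIndependent.pair_iff' hb0] at hbz
    have ha : a ≠ 0 := fun h => hb'0 (by rw [← e, h, zero_smul])
    exact hbz (a⁻¹ * l) (by rw [← smul_smul, hl, ← e, smul_smul, inv_mul_cancel₀ ha, one_smul])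
  obtain ⟨t₁, ht₁, e₁⟩ := indep b z hb hz rfl hz3 hbz
  obtain ⟨t₂, ht₂, e₂⟩ := indep z b' hz hb' hz3 hs.symm hzb'
  exact ⟨t₂ * t₁, mul_mem ht₂ ht₁, by rw [gl_mulVec_mul, e₁, e₂]⟩

/-- The special unitary group is generated by transvections. -/
theorem iso_inf_sl_le_four (hn : 4 ≤ Fintype.card ι) {H : Subgroup (GL ι F)}
    (hH : ∀ v c, f v v = 0 → σ c = -c → uTv hf v c ∈ H) : isoOf f ⊓ specialLinear ι F ≤ H := by
  classical
  have htopnd : IsNondegenerateOn f (⊤ : Submodule F (ι → F)) := fun w _ hw =>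
    ⟨let ⟨x, hx⟩ := (hf.nondegenerate w hw).1; ⟨x, trivial, hx⟩,
      let ⟨x, hx⟩ := (hf.nondegenerate w hw).2; ⟨x, trivial, hx⟩⟩
  have htop : 4 ≤ Module.finrank F (⊤ : Submodule F (ι → F)) := by
    rwa [finrank_top, Module.finrank_fintype_fun_eq_card]
  set T := tvGroup hf (⊤ : Submodule F (ι → F)) with hT
  have hTH : T ≤ H := (Subgroup.closure_le _).2 (by
    rintro _ ⟨v, c, -, hv, hc, rfl⟩; exact hH v c hv hc)
  obtain ⟨v₀, -, hv₀⟩ := exists_value_in hf htopnd le_rfl (by omega) (map_one σ)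
  have hv₀' : f v₀ v₀ ≠ 0 := by rw [hv₀]; exact one_ne_zero
  -- every quasi-reflection is congruent to one with centre `v₀`
  have hcong : ∀ v (hv : f v v ≠ 0) (ζ : Fˣ), ∃ t ∈ T,
      qRefl hf v hv ζ = t * qRefl hf v₀ hv₀' ζ * t⁻¹ := by
    intro v hv ζ
    obtain ⟨a, ha⟩ := exists_norm_eq hf.ne_refl hf.involutive (s := (f v v)⁻¹)
      (by rw [map_inv₀, self_fixed hf])
    have ha' : f (a • v) (a • v) = 1 := by
      rw [hf.smul_left, smul_right hf, ← mul_assoc, ha, inv_mul_cancel₀ hv]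
    have hav : a • v ≠ 0 := fun e => by
      rw [e, zero_left hf] at ha'; exact zero_ne_one ha'
    have hv₀0 : v₀ ≠ 0 := fun e => hv₀' (by rw [e, zero_left hf])
    obtain ⟨t, ht, hte⟩ := exists_tvGroup_mulVec_four hf htopnd htop (Submodule.mem_top (x := v₀))
      (Submodule.mem_top (x := a • v)) hv₀0 hav (hv₀.trans ha'.symm) hv₀'
    refine ⟨t, ht, gl_ext_mulVec fun x => ?_⟩
    have hti : t ∈ isoOf f := (tvGroup_le_iso hf _ ht).1
    rw [gl_mulVec_mul, gl_mulVec_mul, qRefl_mulVec, qRefl_mulVec, mulVec_add, gl_mulVec_inv_mulVec t,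
      mulVec_smul, hte, hv₀, form_mulVec_left ((isoOf f).inv_mem hti), inv_inv, hte, smul_right hf,
      smul_smul]
    congr 2
    have e : σ a * a = (f v v)⁻¹ := by rw [mul_comm]; exact ha
    field_simp at e
    field_simp
    linear_combination -((ζ : F) - 1) * f x v * e
  -- the isometry group is the product
  let U : Set (GL ι F) := {g | ∃ t ∈ T, ∃ ζ : Fˣ, g = t * qRefl hf v₀ hv₀' ζ}
  have hnorm : ∀ ζ : Fˣ, (ζ : F) * σ ζ = 1 → ∀ t ∈ T,
      qRefl hf v₀ hv₀' ζ * t * (qRefl hf v₀ hv₀' ζ)⁻¹ ∈ T := by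
    intro ζ hζ t ht
    induction ht using Subgroup.closure_induction with
    | mem t ht =>
      obtain ⟨v, c, -, hv, hc, rfl⟩ := ht
      rw [uTv_conj hf (qRefl_mem_isoOf hf v₀ hv₀' ζ hζ) hv]
      exact Subgroup.subset_closure ⟨_, c, trivial,
        (mem_isoOf.1 (qRefl_mem_isoOf hf v₀ hv₀' ζ hζ) v v).trans hv, hc, rfl⟩
    | one => simp
    | mul a b _ _ ha hb =>
      have := T.mul_mem ha hb
      simpa [mul_assoc] using this
    | inv a _ ha =>
      have := T.inv_mem ha
      simpa [mul_assoc] using this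
  let fixd : GL ι F → Submodule F (ι → F) := fun g =>
    LinearMap.ker (Matrix.toLin' (g : Matrix ι ι F) - LinearMap.id)
  have hfix : ∀ (g : GL ι F) (x : ι → F), x ∈ fixd g ↔ (g : Matrix ι ι F) *ᵥ x = x := by
    intro g x
    simp [fixd, sub_eq_zero]
  suffices hU : ∀ k, ∀ g ∈ isoOf f, Fintype.card ι ≤ Module.finrank F (fixd g) + k →
      ∃ t ∈ T, ∃ ζ : Fˣ, (ζ : F) * σ ζ = 1 ∧ g = t * qRefl hf v₀ hv₀' ζ by
    rintro g ⟨hgi, hgs⟩
    obtain ⟨t, ht, ζ, -, rfl⟩ := hU (Fintype.card ι) g hgi (Nat.le_add_left _ _)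
    have h1 : Matrix.GeneralLinearGroup.det (t * qRefl hf v₀ hv₀' ζ) = 1 := hgs
    have h2 : Matrix.GeneralLinearGroup.det t = 1 := (tvGroup_le_iso hf _ ht).2
    rw [map_mul, h2, one_mul] at h1
    have h3 : (qMat hf v₀ (ζ : F)).det = 1 := congrArg Units.val h1
    rw [det_qMat hf hv₀'] at h3
    rw [show ζ = 1 from Units.ext h3, map_one, mul_one]
    exact hTH ht
  intro k
  induction k with
  | zero =>
    intro g _ hk
    have htop : fixd g = ⊤ := Submodule.eq_top_of_finrank_eq
      (le_antisymm (Submodule.finrank_le _) (by simpa using hk))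
    refine ⟨1, T.one_mem, 1, by simp, gl_ext_mulVec fun x => ?_⟩
    rw [(hfix g x).1 (htop ▸ Submodule.mem_top)]; simp
  | succ k ih =>
    intro g hg hk
    by_cases hg1 : ∀ x, (g : Matrix ι ι F) *ᵥ x = x
    · exact ⟨1, T.one_mem, 1, by simp, gl_ext_mulVec fun x => by rw [hg1 x]; simp⟩
    obtain ⟨x, hA⟩ : ∃ x, f ((g : Matrix ι ι F) *ᵥ x) ((g : Matrix ι ι F) *ᵥ x - x) ≠ 0 := by
      by_contra hcon
      push Not at hcon
      apply hg1
      have h : ∀ x, f ((g : Matrix ι ι F) *ᵥ x) x = f x x := fun x => by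
        have := hcon x
        rw [sub_right hf, sub_eq_zero, mem_isoOf.1 hg] at this
        exact this.symm
      intro a
      rw [← sub_eq_zero]
      by_contra hne
      obtain ⟨b, hb⟩ := (hf.nondegenerate _ hne).2
      apply hb
      obtain ⟨c, hc⟩ : ∃ c, σ c ≠ c := by
        by_contra h
        push Not at h
        exact hf.ne_refl (RingEquiv.ext h)
      have h0 : ∀ l : F, σ l * f ((g : Matrix ι ι F) *ᵥ a - a) b
          + l * f ((g : Matrix ι ι F) *ᵥ b - b) a = 0 := fun l => by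
        have h' := h (a + l • b)
        rw [mulVec_add, mulVec_smul, hf.add_left, hf.add_left, add_right hf, add_right hf,
          add_right hf, add_right hf, hf.smul_left, hf.smul_left, hf.smul_left, hf.smul_left,
          smul_right hf, smul_right hf, smul_right hf, smul_right hf, h a, h b] at h'
        rw [sub_left hf, sub_left hf]
        linear_combination h'
      have h1 := h0 1
      have h2 := h0 c
      rw [map_one, one_mul, one_mul] at h1
      have : (σ c - c) * f ((g : Matrix ι ι F) *ᵥ a - a) b = 0 := by linear_combination h2 - c * h1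
      exact (mul_eq_zero.1 this).resolve_left (sub_ne_zero.2 hc)
    set gx := (g : Matrix ι ι F) *ᵥ x with hgx
    set d := gx - x with hdd
    have hx : gx ≠ x := fun e => hA (by rw [hdd, e, sub_self, zero_right hf])
    have horth : ∀ w, (g : Matrix ι ι F) *ᵥ w = w → f w d = 0 := by
      intro w hw
      rw [hdd, sub_right hf, sub_eq_zero]
      have e := mem_isoOf.1 hg w x
      rwa [hw] at e
    have hdd' : f d d = f gx d + σ (f gx d) := by
      rw [hdd, sub_left hf, sub_right hf, sub_right hf, map_sub, self_fixed hf, ← hf.herm x gx,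
        mem_isoOf.1 hg]
      ring
    have step : ∀ r : GL ι F, r ∈ isoOf f → (r : Matrix ι ι F) *ᵥ gx = x →
        (∀ w, (g : Matrix ι ι F) *ᵥ w = w → (r : Matrix ι ι F) *ᵥ w = w) →
        ∃ t ∈ T, ∃ ζ : Fˣ, (ζ : F) * σ ζ = 1 ∧ r * g = t * qRefl hf v₀ hv₀' ζ := by
      intro r hr hrx hrw
      have hlt : fixd g < fixd (r * g) := by
        refine lt_of_le_of_ne (fun w hw => ?_) (fun e => ?_)
        · rw [hfix] at hw ⊢
          rw [gl_mulVec_mul, hw, hrw w hw]
        · exact hx ((hfix g x).1 (e ▸ (hfix _ x).2 (by rw [gl_mulVec_mul, ← hgx, hrx])))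
      have := Submodule.finrank_lt_finrank_of_lt hlt
      exact ih (r * g) ((isoOf f).mul_mem hr hg) (by omega)
    by_cases hd0 : f d d = 0
    · have hc : σ (-(f gx d)⁻¹) = -(-(f gx d)⁻¹) := by
        rw [map_neg, map_inv₀, show σ (f gx d) = - f gx d by linear_combination -hdd' + hd0,
          inv_neg]
      obtain ⟨t, ht, ζ, hζ, e⟩ := step (uTv hf d (-(f gx d)⁻¹)) (uTv_mem_isoOf hf hd0 hc)
        (by rw [uTv_mulVec hf hd0, neg_mul, inv_mul_cancel₀ hA, neg_one_smul, hdd]; abel)
        (fun w hw => uTv_mulVec_of_orth hf hd0 _ (horth w hw))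
      refine ⟨(uTv hf d (-(f gx d)⁻¹))⁻¹ * t, T.mul_mem (T.inv_mem ?_) ht, ζ, hζ, ?_⟩
      · exact Subgroup.subset_closure ⟨d, _, trivial, hd0, hc, rfl⟩
      · rw [mul_assoc, ← e, inv_mul_cancel_left]
    · have hσA : σ (f gx d) ≠ 0 := fun e => hA (by simpa using congrArg σ.symm e)
      set ζ₁ : Fˣ := Units.mk0 (- σ (f gx d) / f gx d) (div_ne_zero (neg_ne_zero.2 hσA) hA) with hζ₁
      have hζ₁n : (ζ₁ : F) * σ ζ₁ = 1 := by
        rw [hζ₁, Units.val_mk0, map_div₀, map_neg, hf.involutive]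
        field_simp
      obtain ⟨t, ht, ζ, hζ, e⟩ := step (qRefl hf d hd0 ζ₁) (qRefl_mem_isoOf hf d hd0 ζ₁ hζ₁n)
        (by
          rw [qRefl_mulVec, hζ₁, Units.val_mk0,
            show (- σ (f gx d) / f gx d - 1) / f d d * f gx d = -1 by
              field_simp
              linear_combination hdd', neg_one_smul, hdd]
          abel)
        (fun w hw => by rw [qRefl_mulVec, horth w hw, mul_zero, zero_smul, add_zero])
      obtain ⟨s, hs, hse⟩ := hcong d hd0 ζ₁⁻¹
      have hg' : g = qRefl hf d hd0 ζ₁⁻¹ * (t * qRefl hf v₀ hv₀' ζ) := by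
        rw [← e, map_inv, inv_mul_cancel_left]
      have hinv : ((ζ₁⁻¹ : Fˣ) : F) * σ ((ζ₁⁻¹ : Fˣ) : F) = 1 := by
        rw [Units.val_inv_eq_inv_val, map_inv₀, ← mul_inv, hζ₁n, inv_one]
      refine ⟨s * (qRefl hf v₀ hv₀' ζ₁⁻¹ * (s⁻¹ * t) * (qRefl hf v₀ hv₀' ζ₁⁻¹)⁻¹),
        T.mul_mem hs (hnorm _ hinv _ (T.mul_mem (T.inv_mem hs) ht)), ζ₁⁻¹ * ζ, ?_, ?_⟩
      · rw [Units.val_mul, map_mul]; linear_combination ((ζ : F) * σ (ζ : F)) * hinv + hζ
      · rw [hg', hse, map_mul]; group

end CfsgLib.ClassicalMax.Unit
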