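/-
Stabilisers of decompositions into non-degenerate planes are maximal in four-dimensional unitary
groups.
-/
import Cfsg.Agent.Lib.ClassicalMax.UDecompMax
import Cfsg.Agent.Lib.ClassicalMax.UnitFourDecomp.Gen
set_option autoImplicit false
set_option maxHeartbeats 800000

namespace CfsgLib.ClassicalMax.UDec

open Matrix Cfsg.Geo MonG Unit BlockG

variable {ι : Type} [Fintype ι] [DecidableEq ι] {F : Type*} [Field F] [Fintype F] [DecidableEq F]
  {σ : F ≃+* F} {f : (ι → F) → (ι → F) → F}

/-- Stabilisers of non-degenerate decompositions into blocks of dimension at least two are maximal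
in special unitary groups of dimension at least four. -/
theorem blocks_maximal (hf : IsUnitaryForm σ f) {t m : ℕ}
    {D : Fin t → Submodule F (ι → F)} (hD : IsNondegenerateMDecomposition f m D)
    (hn : 4 ≤ Fintype.card ι) (hm : 2 ≤ m) (hex : m = 2 → qq σ ≠ 2) :
    IsMaximalIn (isoOf f ⊓ specialLinear ι F)
      (decompositionStabilizer D ⊓ (isoOf f ⊓ specialLinear ι F)) := by
  classical
  have hne := hf.ne_refl
  have h2 := hf.involutive
  have hs := isU (ι := Fin t × Fin m) hne h2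
  have hmt := Unit.Frame.card_blocks hD.decomp
  have hcard : 4 ≤ Fintype.card (Fin t × Fin m) := by
    simp only [Fintype.card_prod, Fintype.card_fin]; rw [mul_comm]; omega
  obtain ⟨Ψ, hdet, hiso, hst⟩ := exists_transport_iso hf hD
  have hslI : ∀ g, Ψ g ∈ specialLinear ι F ↔ g ∈ specialLinear (Fin t × Fin m) F := fun g => by
    simp only [specialLinear, MonoidHom.mem_ker, Units.ext_iff, Matrix.GeneralLinearGroup.val_det_apply,
      Units.val_one, hdet]
  refine CfsgLib.ClassicalMax.isMaximalIn_of inf_le_right ?_ ?_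
  · obtain ⟨τ, hτ0, hτ⟩ := exists_trace_zero hne h2
    have h2t := hD.decomp.two_le
    set b : Fin t × Fin m := (⟨0, by omega⟩, ⟨0, hD.decomp.pos⟩)
    set c : Fin t × Fin m := (⟨1, by omega⟩, ⟨0, hD.decomp.pos⟩)
    have hbc : b.1 ≠ c.1 := fun e => by simp [b, c] at e
    have hbc' : b ≠ c := fun e => hbc (congrArg Prod.fst e)
    obtain ⟨a, hab, hac, -⟩ := MonG.exists_notMem (by omega) b c c
    obtain ⟨d, hdb, hdc, hda⟩ := MonG.exists_notMem (by omega) b c a
    obtain ⟨β, hβ⟩ := exists_norm_eq hne h2 (s := (-1 : F)) (by simp)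
    have hβ0 : β ≠ 0 := fun e => by
      rw [e, zero_mul] at hβ; exact one_ne_zero (neg_eq_zero.1 hβ.symm)
    set x : Fin t × Fin m → F := Pi.single a 1 + Pi.single b β + Pi.single c 1 + Pi.single d β
    have hx0 : stdF σ x x = 0 := by
      simp only [x, hs.add_left, add_right hs, single_stdF]
      simp [hab, hab.symm, hac, hac.symm, hda, hda.symm, hbc', hbc'.symm, hdb, hdb.symm, hdc,
        hdc.symm, hβ]
    refine ⟨Ψ (uTv hs x τ), ⟨(hiso _).2 (uTv_mem_isoOf hs hx0 hτ),
      (hslI _).2 (uTv_mem_sl hs x τ)⟩, fun h => ?_⟩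
    obtain ⟨j', hj'⟩ := (hst _).1 h.1 a.1
    have hval : ∀ y, y ≠ a → (uTv hs x τ : Matrix _ _ F) y a = τ * x y := fun y hy => by
      rw [← congrFun (col_eq (uTv hs x τ) a) y, uTv_mulVec hs hx0, single_stdF]
      simp [x, hab.symm, hac.symm, hda.symm, hy]
      ring
    by_cases hj : b.1 = j'
    · have h1 := hj' a c rfl (hj ▸ hbc.symm)
      rw [hval c hac.symm] at h1
      exact hτ0 (by simpa [x, hac.symm, hbc'.symm, hdc.symm] using h1)
    · have h1 := hj' a b rfl hj
      rw [hval b hab.symm] at h1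
      exact mul_ne_zero hτ0 hβ0 (by simpa [x, hab.symm, hbc', hdb.symm] using h1)
  intro M hHM hMK g hgM hgH
  set M' := M.comap Ψ.toMonoidHom with hM'
  have hiso' : M' ≤ isoOf (stdF σ) := fun k hk => (hiso k).1 (hMK hk).1
  have hB : HasUB σ M' := fun h h1 h3 h4 => hHM ⟨(hst h).2 h4, (hiso h).2 h1, (hslI h).2 h3⟩
  have hgM' : Ψ.symm g ∈ M' := by
    change Ψ (Ψ.symm g) ∈ M
    rwa [MulEquiv.apply_symm_apply]
  have hgb' : ¬ Bst (Ψ.symm g) := fun hb => hgH ⟨by simpa using (hst _).2 hb, hMK hgM⟩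
  have hall : ∀ v : Fin t × Fin m → F, stdF σ v v = 0 → v ∈ uSet hs M' := by
    intro v hv
    exact block_uSet hne h2 hB hiso' hm (by
      by_cases hm2 : m = 2
      · exact Or.inr (hex hm2)
      · exact Or.inl (by omega)) hgM' hgb' hv
  have hle : isoOf (stdF σ) ⊓ specialLinear (Fin t × Fin m) F ≤ M' :=
    iso_inf_sl_le_four hs (by omega) fun v c hv hc => (hall v hv).2 c hc
  intro x hx
  have h1 : Ψ.symm x ∈ M' := hle ⟨(hiso _).1 (by rw [MulEquiv.apply_symm_apply]; exact hx.1),
    (hslI _).1 (by rw [MulEquiv.apply_symm_apply]; exact hx.2)⟩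
  change Ψ (Ψ.symm x) ∈ M at h1
  rwa [MulEquiv.apply_symm_apply] at h1

end CfsgLib.ClassicalMax.UDec
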