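/-
Four-dimensional unitary overgroups of the monomial group: a non-monomial element yields a
non-monomial element fixing a coordinate line.
-/
import Cfsg.Agent.Lib.ClassicalMax.UDecompLine
import Cfsg.Agent.Lib.ClassicalMax.MonFour
set_option autoImplicit false
set_option linter.unusedSectionVars false
set_option maxHeartbeats 1000000

namespace CfsgLib.ClassicalMax.UDec.Four

open Matrix Cfsg.Geo MonG Unit

variable {ι : Type} [Fintype ι] [DecidableEq ι] {F : Type*} [Field F] [Fintype F] {σ : F ≃+* F}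
  {M : Subgroup (GL ι F)}
  (hne : σ ≠ RingEquiv.refl F) (h2 : ∀ a : F, σ (σ a) = a)
  (hM : HasU σ M) (hiso : M ≤ isoOf (stdF (ι := ι) σ)) (hn : Fintype.card ι = 4)
  (hq : 4 ≤ qq σ) (hno : NoLine M)

include hne h2 hM hiso hn hq hno

omit hM hiso hn hno in
lemma five_le_card : 5 ≤ Fintype.card (nOne σ) := by
  have := qq_add_one_le hne h2
  rw [Nat.card_eq_fintype_card] at this
  omega

omit hne hM hn hq hno in
lemma row_orth {g : GL ι F} (hg : g ∈ M) {x y : ι} (h : x ≠ y) :
    ∑ k, MonG.col g k x * σ (MonG.col g k y) = 0 := by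
  classical
  have h0 := col_orth hiso (M.inv_mem hg) (a := x) (b := y) h
  simp only [stdF, inv_col h2 hiso hg, h2] at h0
  rw [← map_zero σ, ← h0, map_sum]
  exact Finset.sum_congr rfl fun k _ => by rw [map_mul, h2]

omit hne hM hn hq hno in
lemma row_norm {g : GL ι F} (hg : g ∈ M) (x : ι) : ∑ k, MonG.col g k x * σ (MonG.col g k x) = 1 := by
  classical
  have h0 := col_norm hiso (M.inv_mem hg) x
  simp only [stdF, inv_col h2 hiso hg, h2] at h0
  rw [← map_one σ, ← h0, map_sum]
  exact Finset.sum_congr rfl fun k _ => by rw [map_mul, h2]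

omit hne hM hn hq hno in
/-- The entries of a conjugate of a monomial element. -/
lemma conj_col {g : GL ι F} (hg : g ∈ M) (h : GL ι F) (a z : ι) :
    MonG.col (g * h * g⁻¹) a z
      = ∑ k, MonG.col g k z * ((h : Matrix ι ι F) *ᵥ fun i => σ (MonG.col g i a)) k := by
  rw [← col_eq', gl_mulVec_mul, gl_mulVec_mul, col_eq',
    show MonG.col g⁻¹ a = fun i => σ (MonG.col g i a) from funext fun i => by
      rw [← h2 (MonG.col g⁻¹ a i), ← inv_col h2 hiso (M.inv_mem hg), inv_inv]]
  rfl

omit hne h2 hiso hq in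
lemma two_supp'' {g : GL ι F} (hg : g ∈ M) (hgm : ¬ Mon g) (b a : ι) :
    ∃ y, y ≠ a ∧ MonG.col g b y ≠ 0 := by
  by_contra h
  push Not at h
  obtain ⟨y, hya, hyb, -⟩ := exists_notMem (by omega) a b b
  obtain ⟨D, hD, -, -⟩ := exists_mon hM (Equiv.swap a b) y (fun _ => 1)
  have hk : Mon (mon (Equiv.swap a b) D * g) := by
    refine hno _ (M.mul_mem hD hg) b fun i hi => ?_
    rw [← congrFun (col_eq (mon (Equiv.swap a b) D * g) b) i, gl_mulVec_mul, col_eq', mon_mulVec,
      h _ ?_, mul_zero]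
    intro e
    exact hi (by rw [Equiv.symm_apply_eq] at e; simp [e])
  apply hgm
  have := Mon_mul (Mon_inv (mon_Mon (Equiv.swap a b) D)) hk
  rwa [← mul_assoc, inv_mul_cancel, one_mul] at this

omit hiso in
/-- No column has two zeros. -/
lemma two_zero_false {g : GL ι F} (hg : g ∈ M) (hgm : ¬ Mon g) {a z z' : ι} (hzz : z ≠ z')
    (ha : MonG.col g a z = 0) (ha' : MonG.col g a z' = 0) : False := by
  classical
  obtain ⟨b, hbz⟩ := exists_row_ne_zero g z
  have hd : ∀ t : nOne σ, mon 1 (dfun z (t : Fˣ) z' ((t : Fˣ))⁻¹) ∈ M := fun t => by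
    refine hM _ _ (fun x => ?_) (by rw [det_mon, prod_dfun hzz]; simp)
    unfold dfun
    rw [Function.update_apply, Function.update_apply]
    split_ifs
    · exact (nOne σ).inv_mem t.2
    · exact t.2
    · exact (nOne σ).one_mem
  have hfix : ∀ t : nOne σ, (mon 1 (dfun z (t : Fˣ) z' ((t : Fˣ))⁻¹) : Matrix ι ι F) *ᵥ MonG.col g a
      = (1 : F) • MonG.col g a := fun t => by
    funext x
    rw [dg_mulVec, one_smul]
    by_cases h1 : x = z
    · simp [h1, ha]
    by_cases h3 : x = z'
    · simp [h3, ha']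
    simp [dfun, h1, h3]
  choose π c hc he using fun t => perm_cols hno hg (hd t) (hfix t) b
  simp only [dg_mulVec] at he
  have hrel : ∀ s t, π s = π t → ∀ x,
      c t * (((dfun z (s : Fˣ) z' ((s : Fˣ))⁻¹ x : Fˣ) : F) * MonG.col g b x)
        = c s * (((dfun z (t : Fˣ) z' ((t : Fˣ))⁻¹ x : Fˣ) : F) * MonG.col g b x) := fun s t hst x => by
    have e1 := congrFun (he s) x
    have e2 := congrFun (he t) x
    simp only [Pi.smul_apply, smul_eq_mul] at e1 e2
    rw [e1, e2, hst]; ring
  have h5 := five_le_card hne h2 hq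
  by_cases hy : ∃ y, y ≠ z ∧ y ≠ z' ∧ MonG.col g b y ≠ 0
  · obtain ⟨y, hyz, hyz', hby⟩ := hy
    have hinj : Function.Injective π := fun s t hst => by
      have e1 := hrel s t hst y
      have e2 := hrel s t hst z
      simp [dfun, hyz, hyz', hzz] at e1 e2
      rw [e1.resolve_right hby] at e2
      exact val_injective (mul_right_cancel₀ hbz (mul_left_cancel₀ (hc s) e2))
    have := Fintype.card_le_of_injective π hinj
    omega
  push Not at hy
  have hbz' : MonG.col g b z' ≠ 0 := by
    obtain ⟨y, hyz, hby⟩ := two_supp'' hM hn hno hg hgm b z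
    by_cases e : y = z'
    · exact e ▸ hby
    · exact absurd (hy y hyz e) hby
  -- three scalars with distinct squares
  set S := Finset.univ.image fun t : nOne σ => val t * val t
  have hS : 3 ≤ S.card := by
    have h1 := Finset.card_le_mul_card_image (f := fun t : nOne σ => val t * val t)
      Finset.univ 2 (fun w hw => by
      obtain ⟨t, -, rfl⟩ := Finset.mem_image.1 hw
      rw [← Finset.card_image_of_injective _ (val_injective (σ := σ))]
      refine (Finset.card_le_card fun x hx => ?_).trans (Finset.card_le_two (a := val t) (b := -val t))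
      obtain ⟨s, hs, rfl⟩ := Finset.mem_image.1 hx
      rw [Finset.mem_insert, Finset.mem_singleton]
      exact mul_self_eq_mul_self_iff.1 (Finset.mem_filter.1 hs).2)
    rw [Finset.card_univ] at h1
    change _ ≤ 2 * S.card at h1
    omega
  obtain ⟨T, hTS, hT⟩ := Finset.exists_subset_card_eq hS
  have hsel : ∀ w : T, ∃ t : nOne σ, val t * val t = w := fun w => by
    obtain ⟨t, -, ht⟩ := Finset.mem_image.1 (hTS w.2)
    exact ⟨t, ht⟩
  choose r hr using hsel
  have hinj : Function.Injective fun w : T => π (r w) := fun v w h => by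
    have e1 := hrel _ _ h z
    have e2 := hrel _ _ h z'
    simp [dfun, hzz] at e1 e2
    refine Subtype.ext ?_
    rw [← hr v, ← hr w]
    replace e1 : c (r w) * val (r v) = c (r v) * val (r w) :=
      mul_right_cancel₀ hbz (by simpa [val, mul_assoc] using e1)
    replace e2 : c (r w) * (val (r v))⁻¹ = c (r v) * (val (r w))⁻¹ :=
      mul_right_cancel₀ hbz' (by simpa [val, mul_assoc] using e2)
    refine mul_left_cancel₀ (hc (r w)) ?_
    have hv := val_ne_zero (r v)
    have hw := val_ne_zero (r w)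
    field_simp at e2
    linear_combination (val (r v)) * e1 + (val (r w)) * e2.symm
  -- their columns lie in a plane
  have hli : LinearIndependent F fun w : T => MonG.col g (π (r w)) :=
    (linearIndependent_col g).comp _ hinj
  set P := Submodule.span F (Set.range ![(Pi.single z (1 : F) : ι → F), Pi.single z' 1])
  have hP : Submodule.span F (Set.range fun w : T => MonG.col g (π (r w))) ≤ P := by
    rw [Submodule.span_le]
    rintro _ ⟨w, rfl⟩
    have e : MonG.col g (π (r w)) = ((c (r w))⁻¹ * (val (r w) * MonG.col g b z)) • Pi.single z 1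
        + ((c (r w))⁻¹ * ((val (r w))⁻¹ * MonG.col g b z')) • Pi.single z' 1 := by
      funext x
      have e0 := congrFun (he (r w)) x
      simp only [Pi.smul_apply, smul_eq_mul] at e0
      have e1 : MonG.col g (π (r w)) x = (c (r w))⁻¹ * (((dfun z ((r w : nOne σ) : Fˣ) z' ((r w : nOne σ) : Fˣ)⁻¹ x : Fˣ) : F) * MonG.col g b x) := by
        rw [← inv_mul_cancel_left₀ (hc (r w)) (MonG.col g (π (r w)) x), ← e0]
      rw [e1]
      by_cases h1 : x = z
      · simp [h1, dfun, hzz, val]
      by_cases h3 : x = z'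
      · simp [h3, dfun, hzz.symm, val]
      simp [hy x h1 h3, h1, h3]
    rw [SetLike.mem_coe]
    beta_reduce
    rw [e]
    exact P.add_mem (P.smul_mem _ (Submodule.subset_span ⟨0, rfl⟩))
      (P.smul_mem _ (Submodule.subset_span ⟨1, rfl⟩))
  have h1 := Submodule.finrank_mono hP
  have h3 := finrank_range_le_card (R := F) ![(Pi.single z (1 : F) : ι → F), Pi.single z' 1]
  rw [finrank_span_eq_card hli, Fintype.card_coe, hT] at h1
  simp only [Fintype.card_fin] at h3
  exact absurd (h1.trans h3) (by norm_num)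

/-- Non-monomial elements of `M` have no zero entry. -/
lemma full {g : GL ι F} (hg : g ∈ M) (hgm : ¬ Mon g) (b z : ι) : MonG.col g b z ≠ 0 := by
  classical
  intro hz
  have hnz : ∀ y, y ≠ z → MonG.col g b y ≠ 0 := fun y hy hy0 =>
    two_zero_false hne h2 hM hn hq hno hg hgm hy hy0 hz
  -- a scalar whose fourth power is not one
  obtain ⟨s, hs⟩ : ∃ s : nOne σ, val s * val s * val s * val s ≠ 1 := by
    by_contra hcon
    push Not at hcon
    have h5 := five_le_card hne h2 hq
    have hle : (Finset.univ.image fun t : nOne σ => (t : Fˣ)).card ≤ 4 := by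
      refine (Finset.card_le_card (t := Finset.univ.filter fun x : Fˣ => x ^ 4 = 1) fun x hx => ?_).trans
        (IsCyclic.card_pow_eq_one_le (by norm_num))
      obtain ⟨t, -, rfl⟩ := Finset.mem_image.1 hx
      refine Finset.mem_filter.2 ⟨Finset.mem_univ _, Units.ext ?_⟩
      rw [Units.val_pow_eq_pow_val, Units.val_one, ← hcon t]; ring
    rw [Finset.card_image_of_injective _ Subtype.val_injective, Finset.card_univ] at hle
    omega
  set d : ι → Fˣ := fun x => if x = b then (s : Fˣ) * s * s else (s : Fˣ)⁻¹ with hd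
  have hd' : ∀ x, ((d x : Fˣ) : F)
      = (val s)⁻¹ + if x = b then val s * val s * val s - (val s)⁻¹ else 0 := fun x => by
    by_cases hx : x = b <;> simp [d, hx, val]
  have hdM : mon 1 d ∈ M := by
    refine hM _ _ (fun x => ?_) ?_
    · by_cases hx : x = b
      · rw [show d x = (s : Fˣ) * s * s by simp [d, hx]]
        exact (nOne σ).mul_mem ((nOne σ).mul_mem s.2 s.2) s.2
      · rw [show d x = (s : Fˣ)⁻¹ by simp [d, hx]]
        exact (nOne σ).inv_mem s.2
    · rw [det_mon, ← Finset.mul_prod_erase _ _ (Finset.mem_univ b),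
        Finset.prod_congr rfl (g := fun _ => (val s)⁻¹) fun x hx => by
          simp [d, Finset.ne_of_mem_erase hx, val],
        Finset.prod_const, Finset.card_erase_of_mem (Finset.mem_univ _), Finset.card_univ, hn]
      simp [d, val]
      field_simp
  set h := g * mon 1 d * g⁻¹
  have hcol : ∀ y x, MonG.col h y x = (val s)⁻¹ * (if x = y then 1 else 0)
      + (val s * val s * val s - (val s)⁻¹) * (MonG.col g b x * σ (MonG.col g b y)) := fun y x => by
    rw [conj_col h2 hiso hg, dg_mulVec]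
    simp only [hd', mul_add, add_mul, Finset.sum_add_distrib, ite_mul, zero_mul, mul_ite, mul_zero,
      Finset.sum_ite_eq', Finset.mem_univ, if_true]
    congr 1
    · split_ifs with hxy
      · subst hxy
        have h0 := congrArg ((val s)⁻¹ * ·) (row_norm h2 hiso hg x)
        simp only [Finset.mul_sum] at h0
        rw [← h0]
        exact Finset.sum_congr rfl fun k _ => by ring
      · rw [← mul_zero (val s)⁻¹, ← row_orth h2 hiso hg hxy, Finset.mul_sum]
        exact Finset.sum_congr rfl fun k _ => by ring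
    · ring
  have hk : Mon h := hno h (M.mul_mem (M.mul_mem hg hdM) (M.inv_mem hg)) z fun y hy => by
    change MonG.col h z y = 0
    rw [hcol, if_neg hy, hz, map_zero]; ring
  obtain ⟨y, hyz, -⟩ := exists_notMem (by omega) z z z
  obtain ⟨p, hpz, hpy, -⟩ := exists_notMem (by omega) z y y
  obtain ⟨p', hp'z, hp'y, hp'p⟩ := exists_notMem (by omega) z y p
  obtain ⟨y₁, hy₁⟩ := hk y
  have hne' : ∀ x, x ≠ z → x ≠ y → MonG.col h y x ≠ 0 := fun x hxz hxy => by
    rw [hcol, if_neg hxy, mul_zero, zero_add]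
    refine mul_ne_zero (fun e => hs ?_)
      (mul_ne_zero (hnz x hxz) ((map_ne_zero σ).2 (hnz y hyz)))
    have hv := val_ne_zero s
    rw [sub_eq_zero] at e
    field_simp at e
    linear_combination e
  have e1 : y₁ = p := by
    by_contra hh
    exact hne' p hpz hpy (hy₁ p (Ne.symm hh))
  exact hne' p' hp'z hp'y (hy₁ p' (e1 ▸ hp'p))

/-- Opposite products in two rows are impossible. -/
lemma free_false {g : GL ι F} (hg : g ∈ M) (hgm : ¬ Mon g) {a b : ι} (hab : a ≠ b) {i j : ι}
    (hij : i ≠ j) (hC : MonG.col g i b * σ (MonG.col g i a) + MonG.col g j b * σ (MonG.col g j a) = 0) : False := by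
  classical
  have hfull := fun x y => full hne h2 hM hiso hn hq hno hg hgm x y
  set A := MonG.col g i a * σ (MonG.col g i a) + MonG.col g j a * σ (MonG.col g j a) with hA
  obtain ⟨η, hη1, hη2⟩ : ∃ η : nOne σ, val η * val η ≠ 1 ∧ A * (val η * val η) + (1 - A) ≠ 0 := by
    by_contra hcon
    push Not at hcon
    have h5 := five_le_card hne h2 hq
    set S₁ := Finset.univ.filter fun t : nOne σ => val t * val t = 1
    set S₂ := Finset.univ.filter fun t : nOne σ => A * (val t * val t) + (1 - A) = 0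
    have hcard : ∀ S : Finset (nOne σ), (∀ s ∈ S, ∀ t ∈ S, val s * val s = val t * val t) →
        S.card ≤ 2 := fun S hS => by
      rcases S.eq_empty_or_nonempty with rfl | ⟨t, ht⟩
      · simp
      rw [← Finset.card_image_of_injective _ (val_injective (σ := σ))]
      refine (Finset.card_le_card fun x hx => ?_).trans (Finset.card_le_two (a := val t) (b := -val t))
      obtain ⟨s, hs, rfl⟩ := Finset.mem_image.1 hx
      rw [Finset.mem_insert, Finset.mem_singleton]
      exact mul_self_eq_mul_self_iff.1 (hS s hs t ht)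
    have hsub : (Finset.univ : Finset (nOne σ)) ⊆ S₁ ∪ S₂ := fun t _ => by
      simp only [S₁, S₂, Finset.mem_union, Finset.mem_filter, Finset.mem_univ, true_and]
      exact or_iff_not_imp_left.2 (hcon t)
    have h1 := (Finset.card_le_card hsub).trans (Finset.card_union_le _ _)
    rw [Finset.card_univ] at h1
    have h3 := hcard S₁ fun s hs t ht => by
      rw [(Finset.mem_filter.1 hs).2, (Finset.mem_filter.1 ht).2]
    have h4 := hcard S₂ fun s hs t ht => by
      have e1 := (Finset.mem_filter.1 hs).2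
      have e2 := (Finset.mem_filter.1 ht).2
      have hA0 : A ≠ 0 := fun e => by simp [e] at e1
      exact mul_left_cancel₀ hA0 (by linear_combination e1 - e2)
    omega
  obtain ⟨k, hki, hkj, -⟩ := exists_notMem (by omega) i j j
  obtain ⟨l, hli, hlj, hlk, -, hsum⟩ := MonFour.exists_enum (F := F) hn hij hki.symm hkj.symm
  set d : ι → Fˣ := fun x => if x = i ∨ x = j then (η : Fˣ) else (η : Fˣ)⁻¹
  have hdM : mon 1 d ∈ M := by
    refine hM _ _ (fun x => ?_) ?_
    · by_cases hx : x = i ∨ x = j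
      · rw [show d x = (η : Fˣ) from if_pos hx]; exact η.2
      · rw [show d x = (η : Fˣ)⁻¹ from if_neg hx]; exact (nOne σ).inv_mem η.2
    · have hu : (Finset.univ : Finset ι) = {i, j, k, l} := (Finset.eq_univ_of_card _ (by
        rw [Finset.card_insert_of_notMem (by simp [hij, hki.symm, hli.symm]),
          Finset.card_insert_of_notMem (by simp [hkj.symm, hlj.symm]), Finset.card_pair hlk.symm,
          hn])).symm
      rw [det_mon, hu, Finset.prod_insert (by simp [hij, hki.symm, hli.symm]),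
        Finset.prod_insert (by simp [hkj.symm, hlj.symm]), Finset.prod_pair hlk.symm]
      simp [d, hki, hkj, hli, hlj]
  set m := g * mon 1 d * g⁻¹
  have hm : m ∈ M := M.mul_mem (M.mul_mem hg hdM) (M.inv_mem hg)
  have hx : ∀ x, MonG.col m a x = val η * (MonG.col g i x * σ (MonG.col g i a) + MonG.col g j x * σ (MonG.col g j a))
      + (val η)⁻¹ * (MonG.col g k x * σ (MonG.col g k a) + MonG.col g l x * σ (MonG.col g l a)) := fun x => by
    rw [conj_col h2 hiso hg, dg_mulVec, hsum]
    simp [d, hki, hkj, hli, hlj, val]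
    ring
  have hC' : MonG.col g k b * σ (MonG.col g k a) + MonG.col g l b * σ (MonG.col g l a) = 0 := by
    have h0 := row_orth h2 hiso hg hab.symm
    rw [hsum] at h0
    linear_combination h0 - hC
  have hxb : MonG.col m a b = 0 := by rw [hx, hC, hC', mul_zero, mul_zero, add_zero]
  have hmon : Mon m := by
    by_contra hh
    exact full hne h2 hM hiso hn hq hno hm hh a b hxb
  have hA' : MonG.col g k a * σ (MonG.col g k a) + MonG.col g l a * σ (MonG.col g l a) = 1 - A := by
    have h0 := row_norm h2 hiso hg a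
    rw [hsum] at h0
    linear_combination h0 + hA
  have hxa : MonG.col m a a ≠ 0 := by
    rw [hx, hA', ← hA]
    intro e
    apply hη2
    have := val_ne_zero η
    field_simp at e
    linear_combination e
  obtain ⟨y₁, hy₁⟩ := hmon a
  have hy₁a : y₁ = a := by_contra fun e => hxa (hy₁ a (Ne.symm e))
  have hax : ∀ x, x ≠ a → MonG.col m a x = 0 := fun x hxne => hy₁ x (hy₁a ▸ hxne)
  have hfix : (m : Matrix ι ι F) *ᵥ Pi.single a 1 = MonG.col m a a • Pi.single a 1 := by
    funext x
    rw [col_eq', Pi.smul_apply]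
    by_cases e : x = a
    · simp [e]
    · simp [hax x e, e]
  have hy := congrArg (((g⁻¹ : GL ι F) : Matrix ι ι F) *ᵥ ·) hfix
  simp only [m, gl_mulVec_mul, gl_inv_mulVec_mulVec, mulVec_smul, dg_mulVec] at hy
  simp only [col_eq', m] at hy
  have hk := congrFun hy k
  have hi := congrFun hy i
  simp [d, hki, hkj] at hk hi
  have hg0 : ∀ x, MonG.col g⁻¹ a x ≠ 0 := fun x => by
    rw [← h2 (MonG.col g⁻¹ a x), ← inv_col h2 hiso (M.inv_mem hg), inv_inv]
    exact (map_ne_zero σ).2 (hfull x a)
  have e1 : (val η)⁻¹ = MonG.col m a a := mul_right_cancel₀ (hg0 k) (by simpa [val] using hk)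
  have e2 : val η = MonG.col m a a := mul_right_cancel₀ (hg0 i) (by simpa [val] using hi)
  apply hη1
  nth_rewrite 2 [e2]
  rw [← e1, mul_inv_cancel₀ (val_ne_zero η)]

/-- Proportional products in two rows are impossible. -/
lemma sign_false {g : GL ι F} (hg : g ∈ M) (hgm : ¬ Mon g) {a b : ι} (hab : a ≠ b) {i0 i1 i2 i3 : ι}
    (h01 : i0 ≠ i1) (h03 : i0 ≠ i3)
    (hsum : ∀ φ : ι → F, ∑ x, φ x = φ i0 + φ i1 + φ i2 + φ i3) {ε : F} (hε : ε * ε = 1)
    (e0 : MonG.col g i3 b * σ (MonG.col g i3 a) = ε * (MonG.col g i0 b * σ (MonG.col g i0 a)))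
    (e1 : MonG.col g i2 b * σ (MonG.col g i2 a) = ε * (MonG.col g i1 b * σ (MonG.col g i1 a))) : False := by
  by_cases hε1 : ε = -1
  · refine free_false hne h2 hM hiso hn hq hno hg hgm hab h03 ?_
    rw [e0, hε1]; ring
  have hε' : ε = 1 := (mul_self_eq_one_iff.1 hε).resolve_right hε1
  subst hε'
  refine free_false hne h2 hM hiso hn hq hno hg hgm hab h01 ?_
  have h0 := row_orth h2 hiso hg hab.symm
  rw [hsum, e0, e1] at h0
  have h20 : (2 : F) ≠ 0 := fun e => hε1 (by linear_combination e)
  exact (mul_eq_zero.1 (show (2 : F) * _ = 0 by linear_combination h0)).resolve_left h20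

/-- Symmetric products in two rows are impossible. -/
lemma sym_false {g : GL ι F} (hg : g ∈ M) (hgm : ¬ Mon g) {a b : ι} (hab : a ≠ b) {i0 i1 i2 i3 : ι}
    (h01 : i0 ≠ i1) (h02 : i0 ≠ i2) (h03 : i0 ≠ i3) (h12 : i1 ≠ i2) (h13 : i1 ≠ i3) (h23 : i2 ≠ i3)
    (hall : ∀ x, x = i0 ∨ x = i1 ∨ x = i2 ∨ x = i3)
    (hsum : ∀ φ : ι → F, ∑ x, φ x = φ i0 + φ i1 + φ i2 + φ i3) {κ : F} (hκ : κ * σ κ = 1)
    (e0 : MonG.col g i3 b * σ (MonG.col g i3 a) = κ * σ (MonG.col g i0 b * σ (MonG.col g i0 a)))
    (e1 : MonG.col g i2 b * σ (MonG.col g i2 a) = κ * σ (MonG.col g i1 b * σ (MonG.col g i1 a))) : False := by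
  classical
  have hfull := fun x y => full hne h2 hM hiso hn hq hno hg hgm x y
  set C : ι → F := fun x => MonG.col g x b * σ (MonG.col g x a)
  have hC0 : ∀ x, C x ≠ 0 := fun x => mul_ne_zero (hfull x b) ((map_ne_zero σ).2 (hfull x a))
  change C i3 = κ * σ (C i0) at e0
  change C i2 = κ * σ (C i1) at e1
  have hCsum : ∑ x, C x = 0 := row_orth h2 hiso hg hab.symm
  set τ : ι → F := fun x => κ * σ (C x) / C x with hτdef
  have hτC : ∀ x, τ x * C x = κ * σ (C x) := fun x => div_mul_cancel₀ _ (hC0 x)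
  have hτn : ∀ x, τ x * σ (τ x) = 1 := fun x => by
    have := (map_ne_zero σ).2 (hC0 x)
    have := hC0 x
    simp only [τ, map_div₀, map_mul, h2]
    field_simp
    linear_combination hκ
  have hτ0 : ∀ x, τ x ≠ 0 := fun x e => by simpa [e] using hτn x
  have p0 : τ i0 * τ i3 = 1 := by
    have := hC0 i0; have := (map_ne_zero σ).2 (hC0 i0)
    have hκ0 : κ ≠ 0 := fun e => by simp [e] at hκ
    simp only [τ, e0, map_mul, h2]
    field_simp
    linear_combination hκ
  have p1 : τ i1 * τ i2 = 1 := by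
    have := hC0 i1; have := (map_ne_zero σ).2 (hC0 i1)
    have hκ0 : κ ≠ 0 := fun e => by simp [e] at hκ
    simp only [τ, e1, map_mul, h2]
    field_simp
    linear_combination hκ
  have collinear : (∀ x, τ x = τ i0) → False := fun hall' => by
    have h33 := p0
    rw [hall' i3] at h33
    refine sign_false hne h2 hM hiso hn hq hno hg hgm hab h01 h03 hsum h33 ?_ ?_
    · rw [show MonG.col g i3 b * σ (MonG.col g i3 a) = C i3 from rfl, e0, ← hτC]
    · rw [show MonG.col g i2 b * σ (MonG.col g i2 a) = C i2 from rfl, e1, ← hτC, hall' i1]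
  set d : ι → Fˣ := fun x => Units.mk0 (τ x) (hτ0 x)
  have hu : (Finset.univ : Finset ι) = {i0, i1, i2, i3} := (Finset.eq_univ_iff_forall.2 fun x => by
    rcases hall x with rfl | rfl | rfl | rfl <;> simp).symm
  have hdM : mon 1 d ∈ M := by
    refine hM _ _ (fun x => hτn x) ?_
    rw [det_mon, hu, Finset.prod_insert (by simp [h01, h02, h03]),
      Finset.prod_insert (by simp [h12, h13]), Finset.prod_pair h23]
    simp [d]
    linear_combination (τ i1 * τ i2) * p0 + p1
  set m := g * mon 1 d * g⁻¹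
  have hm : m ∈ M := M.mul_mem (M.mul_mem hg hdM) (M.inv_mem hg)
  have hxb : MonG.col m a b = 0 := by
    rw [conj_col h2 hiso hg, dg_mulVec]
    have h0 := congrArg (fun z => κ * σ z) hCsum
    simp only [map_zero, mul_zero, map_sum, Finset.mul_sum, ← hτC] at h0
    rw [← h0]
    refine Finset.sum_congr rfl fun x _ => ?_
    simp [d, C]; ring
  have hmon : Mon m := by
    by_contra hh
    exact full hne h2 hM hiso hn hq hno hm hh a b hxb
  obtain ⟨ν, D, hν⟩ := exists_mon_of_Mon hmon
  have hE : ∀ x k, MonG.col g k (ν x) * τ k = (D x : F) * MonG.col g k x := fun x k => by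
    have h0 : g * mon 1 d = mon ν D * g := by rw [← hν]; simp [m, mul_assoc]
    have h1 := congrArg (fun u : GL ι F => ((u : Matrix ι ι F) *ᵥ Pi.single k 1) (ν x)) h0
    simp only [gl_mulVec_mul] at h1
    rw [mon_mulVec_single, mul_one, Equiv.Perm.one_apply] at h1
    simp only [col_eq'] at h1
    rw [show (Pi.single k ((d k : Fˣ) : F) : ι → F) = (τ k) • Pi.single k 1 by
      rw [← Pi.single_smul]; simp [d], mulVec_smul, col_eq', mon_mulVec,
      Equiv.symm_apply_apply] at h1
    rw [← h1, Pi.smul_apply, smul_eq_mul, mul_comm]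
  have hνa : ν a ≠ b := fun e => by
    have := congrFun (col_eq m a) b
    rw [hν, mon_mulVec_single, e, Pi.single_eq_same, mul_one] at this
    exact (D a).ne_zero (this.trans (hν ▸ hxb : MonG.col (mon ν D) a b = 0))
  have hfp : ∀ x, ν x ≠ x := fun x e => collinear fun y => by
    have h1 := hE x y
    have h3 := hE x i0
    rw [e] at h1 h3
    exact (mul_left_cancel₀ (hfull y x) (h1.trans (mul_comm _ _))).trans
      (mul_left_cancel₀ (hfull i0 x) (h3.trans (mul_comm _ _))).symm
  -- the square of the scaling is a scalar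
  have hsq : ∀ x, τ x * τ x = τ i0 * τ i0 := by
    by_cases h2a : ν (ν a) = a
    · intro x
      have key : ∀ k, τ k * τ k = (D a : F) * (D (ν a) : F) := fun k => by
        have h1 := hE a k
        have h3 := hE (ν a) k
        rw [h2a] at h3
        refine mul_left_cancel₀ (hfull k a) ?_
        linear_combination τ k * h3 + (D (ν a) : F) * h1
      rw [key, key]
    exfalso
    set c1 := ν a
    set c2 := ν c1
    set c3 := ν c2
    have n1 : a ≠ c1 := (hfp a).symm
    have n2 : c1 ≠ c2 := (hfp c1).symm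
    have n3 : a ≠ c2 := fun e => h2a e.symm
    obtain ⟨u, hua, hu1, hu2, hall', -⟩ := MonFour.exists_enum (F := F) hn n1 n3 n2
    have e3 : c3 = u := by
      rcases hall' c3 with e | e | e | e
      · exfalso
        rcases hall' (ν u) with e' | e' | e' | e'
        · exact hu2 (ν.injective (e'.trans e.symm))
        · exact hua (ν.injective e')
        · exact hu1 (ν.injective e')
        · exact hfp u e'
      · exact absurd (ν.injective e) n3.symm
      · exact absurd e (hfp c2)
      · exact e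
    have e4 : ν c3 = a := by
      rcases hall' (ν c3) with e | e | e | e
      · exact e
      · exact absurd (ν.injective e) (e3 ▸ hua)
      · exact absurd (ν.injective e) (e3 ▸ hu1)
      · exact absurd (e.trans e3.symm) (hfp c3)
    have r2 : ∀ k, MonG.col g k c2 * (τ k * τ k) = (D a : F) * (D c1 : F) * MonG.col g k a := fun k => by
      linear_combination τ k * hE c1 k + (D c1 : F) * hE a k
    have r3 : ∀ k, MonG.col g k c3 * (τ k * τ k * τ k)
        = (D a : F) * (D c1 : F) * (D c2 : F) * MonG.col g k a := fun k => by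
      linear_combination (τ k * τ k) * hE c2 k + (D c2 : F) * r2 k
    have r4 : ∀ k, τ k * τ k * (τ k * τ k)
        = (D a : F) * (D c1 : F) * (D c2 : F) * (D c3 : F) := fun k => by
      have h1 := hE c3 k
      rw [e4] at h1
      refine mul_left_cancel₀ (hfull k a) ?_
      linear_combination (τ k * τ k * τ k) * h1 + (D c3 : F) * r3 k
    have hn0 : ∀ k, σ (MonG.col g k a) * MonG.col g k a ≠ 0 := fun k =>
      mul_ne_zero ((map_ne_zero σ).2 (hfull k a)) (hfull k a)
    have hb : b = c2 ∨ b = c3 := by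
      rcases hall' b with e | e | e | e
      · exact absurd e hab.symm
      · exact absurd e.symm hνa
      · exact Or.inl e
      · exact Or.inr (e.trans e3.symm)
    -- a power of the scaling prime to four is a scalar
    rcases hb with e | e
    · have hCk : ∀ k, τ k * τ k * C k
          = (D a : F) * (D c1 : F) * (σ (MonG.col g k a) * MonG.col g k a) := fun k => by
        simp only [C, e]
        linear_combination σ (MonG.col g k a) * r2 k
      set K := (D a : F) * (D c1 : F)
      have h3' : ∀ k, K * τ k = (κ * σ K) * ((D a : F) * D c1 * D c2 * D c3) := by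
        intro k
        have h1 := hτC k
        have hc := hCk k
        have hs := congrArg σ hc
        simp only [map_mul, h2] at hs
        have hσ : σ (τ k) = (τ k)⁻¹ := eq_inv_of_mul_eq_one_right (hτn k)
        rw [hσ] at hs
        have := hτ0 k
        field_simp at hs
        refine mul_right_cancel₀ (hn0 k) ?_
        rw [← r4 k]
        linear_combination (-τ k) * hc + (τ k * τ k) * h1 + (κ * (τ k * τ k)) * hs
      refine collinear fun x => ?_
      have hK : K ≠ 0 := mul_ne_zero (D a).ne_zero (D c1).ne_zero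
      exact mul_left_cancel₀ hK ((h3' x).trans (h3' i0).symm)
    · set K := (D a : F) * (D c1 : F) * (D c2 : F) with hK'
      have hCk : ∀ k, τ k * τ k * τ k * C k = K * (σ (MonG.col g k a) * MonG.col g k a) := fun k => by
        simp only [C, e, K]
        linear_combination σ (MonG.col g k a) * r3 k
      have h5' : ∀ k, K * τ k = (κ * σ K) * ((D a : F) * D c1 * D c2 * D c3) * (τ k * τ k) := by
        intro k
        have h1 := hτC k
        have hc := hCk k
        have hs := congrArg σ hc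
        simp only [map_mul, h2] at hs
        have hσ : σ (τ k) = (τ k)⁻¹ := eq_inv_of_mul_eq_one_right (hτn k)
        rw [hσ] at hs
        have := hτ0 k
        field_simp at hs
        refine mul_right_cancel₀ (hn0 k) ?_
        rw [← r4 k]
        linear_combination (-(τ k)) * hc + (τ k * τ k * τ k) * h1
          + (κ * (τ k * τ k * τ k)) * hs
      refine collinear fun x => ?_
      have hK : K ≠ 0 := by simp [K]
      have hx : ∀ k, K = (κ * σ K) * ((D a : F) * D c1 * D c2 * D c3) * τ k := fun k =>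
        mul_right_cancel₀ (hτ0 k) (by linear_combination h5' k)
      have hh := (hx x).symm.trans (hx i0)
      refine mul_left_cancel₀ (fun e0' => hK ?_) hh
      rw [hx i0, e0', zero_mul]
  -- two opposite pairs
  have hs : ∀ x, τ x = τ i0 ∨ τ x = -τ i0 := fun x => mul_self_eq_mul_self_iff.1 (hsq x)
  have hS : C i0 + C i1 + C i2 + C i3 = 0 := by rw [← hsum]; exact hCsum
  have hT : τ i0 * C i0 + τ i1 * C i1 + τ i2 * C i2 + τ i3 * C i3 = 0 := by
    rw [hτC, hτC, hτC, hτC, ← mul_add, ← mul_add, ← mul_add, ← map_add, ← map_add, ← map_add, hS,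
      map_zero, mul_zero]
  have h20 : (2 : F) ≠ 0 := fun e => collinear fun x => by
    rcases hs x with h | h
    · exact h
    · rw [h]; linear_combination -τ i0 * e
  have fr := fun {i j : ι} (h : i ≠ j) (hh : C i + C j = 0) =>
    free_false hne h2 hM hiso hn hq hno hg hgm hab h hh
  have cancel : ∀ {z : F}, τ i0 * ((2 : F) * z) = 0 → z = 0 := fun hz =>
    (mul_eq_zero.1 ((mul_eq_zero.1 hz).resolve_left (hτ0 i0))).resolve_left h20
  rcases hs i1 with t1 | t1 <;> rcases hs i2 with t2 | t2 <;> rcases hs i3 with t3 | t3 <;>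
    rw [t1, t2, t3] at hT
  · exact collinear fun x => by
      rcases hall x with rfl | rfl | rfl | rfl
      exacts [rfl, t1, t2, t3]
  · exact hC0 i3 (cancel (by linear_combination τ i0 * hS - hT))
  · exact hC0 i2 (cancel (by linear_combination τ i0 * hS - hT))
  · exact fr h01 (cancel (by linear_combination τ i0 * hS + hT))
  · exact hC0 i1 (cancel (by linear_combination τ i0 * hS - hT))
  · exact fr h02 (cancel (by linear_combination τ i0 * hS + hT))
  · exact fr h03 (cancel (by linear_combination τ i0 * hS + hT))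
  · exact hC0 i0 (cancel (by linear_combination τ i0 * hS + hT))

omit hne h2 hM hiso hn hq hno in
/-- Among three norm-one scalars two have a square product. -/
lemma exists_square_pair (w₁ w₂ w₃ : nOne σ) :
    (∃ r, r * r = w₁ * w₂) ∨ (∃ r, r * r = w₂ * w₃) ∨ ∃ r, r * r = w₃ * w₁ := by
  obtain ⟨ω, hω⟩ := IsCyclic.exists_generator (α := nOne σ)
  have key : ∀ i j : ℤ, (i + j) % 2 = 0 → ∃ r, r * r = ω ^ i * ω ^ j := fun i j h =>
    ⟨ω ^ ((i + j) / 2), by rw [← _root_.zpow_add, ← _root_.zpow_add]; congr 1; omega⟩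
  obtain ⟨i, rfl⟩ := Subgroup.mem_zpowers_iff.1 (hω w₁)
  obtain ⟨j, rfl⟩ := Subgroup.mem_zpowers_iff.1 (hω w₂)
  obtain ⟨k, rfl⟩ := Subgroup.mem_zpowers_iff.1 (hω w₃)
  rcases (show (i + j) % 2 = 0 ∨ (j + k) % 2 = 0 ∨ (k + i) % 2 = 0 by omega) with h | h | h
  · exact Or.inl (key i j h)
  · exact Or.inr (Or.inl (key j k h))
  · exact Or.inr (Or.inr (key k i h))

/-- The monomial element commuting with the alternating map sending one row to another. -/
lemma rho_false {g : GL ι F} (hg : g ∈ M) (hgm : ¬ Mon g) {a b : ι} (hab : a ≠ b) {i0 i1 i2 i3 : ι}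
    (h01 : i0 ≠ i1) (h02 : i0 ≠ i2) (h03 : i0 ≠ i3) (h12 : i1 ≠ i2) (h13 : i1 ≠ i3) (h23 : i2 ≠ i3)
    (hall : ∀ x, x = i0 ∨ x = i1 ∨ x = i2 ∨ x = i3)
    (hsum : ∀ φ : ι → F, ∑ x, φ x = φ i0 + φ i1 + φ i2 + φ i3)
    {y y' : ι → F} (hy : ∀ x, y x = σ (MonG.col g x a)) (hy' : ∀ x, y' x = σ (MonG.col g x b))
    {A₁ A₂ A₃ : F}
    (hA₁ : A₁ = y' i0 * y i1 - y' i1 * y i0 + σ (y' i2 * y i3 - y' i3 * y i2))
    (hA₂ : A₂ = y' i0 * y i2 - y' i2 * y i0 + σ (y' i3 * y i1 - y' i1 * y i3))
    (hA₃ : A₃ = y' i0 * y i3 - y' i3 * y i0 + σ (y' i1 * y i2 - y' i2 * y i1))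
    {φ₁ φ₂ r : nOne σ} (hφ₁ : val φ₁ * A₁ = σ A₁) (hφ₂ : val φ₂ * A₂ = σ A₂)
    (hr : r * r = φ₁ * φ₂) : False := by
  classical
  have hfull := fun x z => full hne h2 hM hiso hn hq hno hg hgm x z
  -- the scalars
  set d0 := val r with hd0
  set d1 := -val φ₁ / val r with hd1
  have hr0 := val_ne_zero r
  have hd00 : d0 ≠ 0 := hr0
  have hd10 : d1 ≠ 0 := div_ne_zero (neg_ne_zero.2 (val_ne_zero _)) hr0
  have hdn0 : d0 * σ d0 = 1 := val_norm r
  have hdn1 : d1 * σ d1 = 1 := by
    rw [hd1, map_div₀, map_neg, sigma_val, sigma_val]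
    have := val_ne_zero φ₁
    field_simp
  have hr2 : val r * val r = val φ₁ * val φ₂ := by
    have := congrArg (val (σ := σ)) hr
    simpa [val] using this
  have k1 : σ A₁ = -(d0 * d1) * A₁ := by rw [← hφ₁, hd0, hd1]; field_simp
  have k2 : d1 * σ A₂ = -d0 * A₂ := by
    have e : d1 * val φ₂ = -d0 := by
      rw [hd0, hd1]; field_simp
      linear_combination hr2
    rw [← hφ₂, ← mul_assoc, e]
  have s0 : σ d0 = d0⁻¹ := eq_inv_of_mul_eq_one_right hdn0
  have s1 : σ d1 = d1⁻¹ := eq_inv_of_mul_eq_one_right hdn1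
  set d : ι → Fˣ := fun x => if x = i0 then Units.mk0 d0 hd00 else if x = i1 then Units.mk0 d1 hd10
    else if x = i2 then -(Units.mk0 d1 hd10)⁻¹ else -(Units.mk0 d0 hd00)⁻¹
  set π : Equiv.Perm ι := Equiv.swap i0 i3 * Equiv.swap i1 i2
  have π0 : π i0 = i3 := by simp [π, Equiv.swap_apply_of_ne_of_ne h01 h02]
  have π1 : π i1 = i2 := by simp [π, Equiv.swap_apply_of_ne_of_ne h02.symm h23]
  have π2 : π i2 = i1 := by simp [π, Equiv.swap_apply_of_ne_of_ne h01.symm h13]
  have π3 : π i3 = i0 := by simp [π, Equiv.swap_apply_of_ne_of_ne h13.symm h23.symm]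
  have hπ : ∀ x, π.symm x = π x := fun x => by
    rw [Equiv.symm_apply_eq]
    rcases hall x with rfl | rfl | rfl | rfl <;> simp [π0, π1, π2, π3]
  have hu : (Finset.univ : Finset ι) = {i0, i1, i2, i3} := (Finset.eq_univ_iff_forall.2 fun x => by
    rcases hall x with rfl | rfl | rfl | rfl <;> simp).symm
  have hd : ∀ x, d x ∈ nOne σ := fun x => by
    have n0 : Units.mk0 d0 hd00 ∈ nOne σ := hdn0
    have n1 : Units.mk0 d1 hd10 ∈ nOne σ := hdn1
    have nneg : ∀ u ∈ nOne σ, -u ∈ nOne σ := fun u hu => by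
      simpa [mem_nOne] using hu
    simp only [d]
    split_ifs
    exacts [n0, n1, nneg _ ((nOne σ).inv_mem n1), nneg _ ((nOne σ).inv_mem n0)]
  have hρ₀ : mon π d ∈ M := by
    refine hM _ _ hd ?_
    rw [det_mon, map_mul, Equiv.Perm.sign_swap h03, Equiv.Perm.sign_swap h12, hu,
      Finset.prod_insert (by simp [h01, h02, h03]), Finset.prod_insert (by simp [h12, h13]),
      Finset.prod_pair h23]
    simp [d, h01.symm, h02.symm, h03.symm, h12.symm, h13.symm, h23.symm]
    field_simp
  set ρ := g * mon π d * g⁻¹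
  have hρ : ρ ∈ M := M.mul_mem (M.mul_mem hg hρ₀) (M.inv_mem hg)
  set w := (mon π d : Matrix ι ι F) *ᵥ y with hw
  set w' := (mon π d : Matrix ι ι F) *ᵥ y' with hw'
  have hwv : ∀ v : ι → F, ((mon π d : Matrix ι ι F) *ᵥ v) i0 = -d0⁻¹ * v i3 ∧
      ((mon π d : Matrix ι ι F) *ᵥ v) i1 = -d1⁻¹ * v i2 ∧
      ((mon π d : Matrix ι ι F) *ᵥ v) i2 = d1 * v i1 ∧
      ((mon π d : Matrix ι ι F) *ᵥ v) i3 = d0 * v i0 := fun v => by
    refine ⟨?_, ?_, ?_, ?_⟩ <;>
      simp [mon_mulVec, hπ, π0, π1, π2, π3, d, h01.symm, h02.symm, h03.symm, h12.symm, h13.symm,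
        h23.symm]
  have hnyy : y i0 * σ (y i0) + y i1 * σ (y i1) + y i2 * σ (y i2) + y i3 * σ (y i3) = 1 := by
    have h0 := row_norm h2 hiso hg a
    rw [hsum] at h0
    simp only [hy, h2]
    linear_combination h0
  have hnyy' : y' i0 * σ (y' i0) + y' i1 * σ (y' i1) + y' i2 * σ (y' i2) + y' i3 * σ (y' i3) = 1 := by
    have h0 := row_norm h2 hiso hg b
    rw [hsum] at h0
    simp only [hy', h2]
    linear_combination h0
  have hperp : y' i0 * σ (y i0) + y' i1 * σ (y i1) + y' i2 * σ (y i2) + y' i3 * σ (y i3) = 0 := by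
    have h0 := row_orth h2 hiso hg hab
    rw [hsum] at h0
    simp only [hy, hy', h2]
    linear_combination h0
  have J0 : y' i0 = A₁ * σ (y i1) + A₂ * σ (y i2) + A₃ * σ (y i3) := by
    rw [hA₁, hA₂, hA₃]; simp only [map_sub, map_mul]
    linear_combination (-y' i0) * hnyy + y i0 * hperp
  have J1 : y' i1 = -A₁ * σ (y i0) + σ A₃ * σ (y i2) - σ A₂ * σ (y i3) := by
    rw [hA₁, hA₂, hA₃]; simp only [map_add, map_sub, map_mul, h2]
    linear_combination (-y' i1) * hnyy + y i1 * hperp
  have J2 : y' i2 = -A₂ * σ (y i0) - σ A₃ * σ (y i1) + σ A₁ * σ (y i3) := by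
    rw [hA₁, hA₂, hA₃]; simp only [map_add, map_sub, map_mul, h2]
    linear_combination (-y' i2) * hnyy + y i2 * hperp
  have J3 : y' i3 = -A₃ * σ (y i0) + σ A₂ * σ (y i1) - σ A₁ * σ (y i2) := by
    rw [hA₁, hA₂, hA₃]; simp only [map_add, map_sub, map_mul, h2]
    linear_combination (-y' i3) * hnyy + y i3 * hperp
  have hs : A₁ * σ A₁ + A₂ * σ A₂ + A₃ * σ A₃ = 1 := by
    have h0 := hnyy'
    rw [J0, J1, J2, J3] at h0
    simp only [map_add, map_sub, map_mul, map_neg, h2] at h0
    linear_combination h0 - (A₁ * σ A₁ + A₂ * σ A₂ + A₃ * σ A₃) * hnyy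
  obtain ⟨w0, w1, w2, w3⟩ := hwv y
  obtain ⟨w0', w1', w2', w3'⟩ := hwv y'
  rw [← hw] at w0 w1 w2 w3
  rw [← hw'] at w0' w1' w2' w3'
  -- the image of the second row under the alternating map
  have L0 : w' i0 = A₁ * σ (w i1) + A₂ * σ (w i2) + A₃ * σ (w i3) := by
    rw [w0', w1, w2, w3, J3]
    simp only [map_mul, map_neg, map_inv₀, s0, s1, inv_inv]
    field_simp
    linear_combination (d1 * σ (y i2)) * k1 + (-σ (y i1)) * k2
  have L1 : w' i1 = -A₁ * σ (w i0) + σ A₃ * σ (w i2) - σ A₂ * σ (w i3) := by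
    rw [w1', w0, w2, w3, J2]
    simp only [map_mul, map_neg, map_inv₀, s0, s1, inv_inv]
    field_simp
    linear_combination (-(d0 * σ (y i3))) * k1 + σ (y i0) * k2
  have L2 : w' i2 = -A₂ * σ (w i0) - σ A₃ * σ (w i1) + σ A₁ * σ (w i3) := by
    rw [w2', w0, w1, w3, J1]
    simp only [map_mul, map_neg, map_inv₀, s0, s1, inv_inv]
    field_simp
    linear_combination (-σ (y i0)) * k1 - (d0 * σ (y i3)) * k2
  have L3 : w' i3 = -A₃ * σ (w i0) + σ A₂ * σ (w i1) - σ A₁ * σ (w i2) := by
    rw [w3', w0, w1, w2, J0]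
    simp only [map_mul, map_neg, map_inv₀, s0, s1, inv_inv]
    field_simp
    linear_combination σ (y i1) * k1 + (d1 * σ (y i2)) * k2
  have q22 : w' i0 * σ (y' i0) + w' i1 * σ (y' i1) + w' i2 * σ (y' i2) + w' i3 * σ (y' i3)
      = σ (w i0) * y i0 + σ (w i1) * y i1 + σ (w i2) * y i2 + σ (w i3) * y i3 := by
    rw [L0, L1, L2, L3, J0, J1, J2, J3]
    simp only [map_add, map_sub, map_mul, map_neg, h2]
    linear_combination (σ (w i0) * y i0 + σ (w i1) * y i1 + σ (w i2) * y i2 + σ (w i3) * y i3) * hs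
  have q12 : w' i0 * σ (y i0) + w' i1 * σ (y i1) + w' i2 * σ (y i2) + w' i3 * σ (y i3)
      = -(σ (w i0) * y' i0 + σ (w i1) * y' i1 + σ (w i2) * y' i2 + σ (w i3) * y' i3) := by
    rw [L0, L1, L2, L3, J0, J1, J2, J3]
    ring
  have hcol : ∀ z, MonG.col ρ a z = ∑ k, MonG.col g k z * w k ∧ MonG.col ρ b z = ∑ k, MonG.col g k z * w' k := fun z =>
    ⟨by rw [conj_col h2 hiso hg, hw, show y = fun i => σ (MonG.col g i a) from funext hy],
      by rw [conj_col h2 hiso hg, hw', show y' = fun i => σ (MonG.col g i b) from funext hy']⟩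
  have hga : ∀ x, MonG.col g x a = σ (y x) := fun x => by rw [hy, h2]
  have hgb : ∀ x, MonG.col g x b = σ (y' x) := fun x => by rw [hy', h2]
  by_cases hρm : Mon ρ
  swap
  · refine free_false hne h2 hM hiso hn hq hno hρ hρm hab hab ?_
    rw [(hcol a).1, (hcol b).1, (hcol a).2, (hcol b).2, hsum, hsum, hsum, hsum]
    simp only [hga, hgb, map_add, map_mul, h2]
    have q12' := congrArg σ q12
    simp only [map_add, map_neg, map_mul, h2] at q12'
    linear_combination
      (y i0 * σ (w' i0) + y i1 * σ (w' i1) + y i2 * σ (w' i2) + y i3 * σ (w' i3)) * q22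
      + (σ (w i0) * y i0 + σ (w i1) * y i1 + σ (w i2) * y i2 + σ (w i3) * y i3) * q12'
  obtain ⟨ν, D, hν⟩ := exists_mon_of_Mon hρm
  have hD : ∀ x, (D x : F) * σ (D x : F) = 1 := fun x => by
    have := col_norm hiso hρ x
    rw [← col_eq', hν, mon_mulVec_single, single_stdF] at this
    simpa using this
  have hdd : ∀ k, (d k : F) * (d (π k) : F) = -1 := fun k => by
    rcases hall k with rfl | rfl | rfl | rfl <;>
      simp [π0, π1, π2, π3, d, h01.symm, h02.symm, h03.symm, h12.symm, h13.symm, h23.symm, hd00,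
        hd10]
  have hE : ∀ x k, (d k : F) * MonG.col g (π k) (ν x) = (D x : F) * MonG.col g k x := fun x k => by
    have h0 : g * mon π d = mon ν D * g := by rw [← hν]; simp [ρ, mul_assoc]
    have h1 := congrArg (fun u : GL ι F => ((u : Matrix ι ι F) *ᵥ Pi.single k 1) (ν x)) h0
    simp only [gl_mulVec_mul] at h1
    rw [mon_mulVec_single, mul_one] at h1
    simp only [col_eq'] at h1
    rw [show (Pi.single (π k) ((d k : Fˣ) : F) : ι → F) = (d k : F) • Pi.single (π k) 1 by
      rw [← Pi.single_smul]; simp, mulVec_smul, col_eq', mon_mulVec,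
      Equiv.symm_apply_apply] at h1
    exact h1
  have hππ : ∀ k, π (π k) = k := fun k => by
    rcases hall k with rfl | rfl | rfl | rfl <;> simp [π0, π1, π2, π3]
  have hE2 : ∀ x k, -MonG.col g k (ν (ν x)) = (D x : F) * (D (ν x) : F) * MonG.col g k x := fun x k => by
    have e1 := hE (ν x) (π k)
    rw [hππ] at e1
    linear_combination (D (ν x) : F) * hE x k + (d k : F) * e1
      - MonG.col g k (ν (ν x)) * hdd k
  have hinv : ∀ x, ν (ν x) = x := fun x => by
    by_contra hne'
    have h0 := row_orth h2 hiso hg hne'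
    have h1 := row_norm h2 hiso hg x
    have h3 : ((D x : F) * (D (ν x) : F)) * ∑ k, MonG.col g k x * σ (MonG.col g k x) = 0 := by
      rw [Finset.mul_sum, ← neg_eq_zero, ← Finset.sum_neg_distrib, ← h0]
      refine Finset.sum_congr rfl fun k _ => ?_
      linear_combination σ (MonG.col g k x) * hE2 x k
    rw [h1, mul_one] at h3
    simp at h3
  by_cases hfix : ∀ x, ν x = x
  · have hsq : ∀ x, (D x : F) * (D x : F) = -1 := fun x => by
      have h0 := hE2 x i0
      rw [hfix, hfix] at h0
      exact mul_right_cancel₀ (hfull i0 x) (by linear_combination -h0)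
    obtain ⟨x, x', hxx, hDD⟩ : ∃ x x', x ≠ x' ∧ (D x : F) = (D x' : F) := by
      rcases mul_self_eq_mul_self_iff.1 ((hsq i1).trans (hsq i0).symm) with h | h
      · exact ⟨i1, i0, h01.symm, h⟩
      rcases mul_self_eq_mul_self_iff.1 ((hsq i2).trans (hsq i0).symm) with h' | h'
      · exact ⟨i2, i0, h02.symm, h'⟩
      · exact ⟨i1, i2, h12, h.trans h'.symm⟩
    have key : ∀ k, MonG.col g (π k) x' * σ (MonG.col g (π k) x) = MonG.col g k x' * σ (MonG.col g k x) := fun k => by
      have e1 := hE x k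
      have e2 := hE x' k
      rw [hfix] at e1 e2
      have e1' := congrArg σ e1
      simp only [map_mul, hDD] at e1'
      linear_combination σ (d k : F) * σ (MonG.col g (π k) x) * e2 + ((D x' : F) * MonG.col g k x') * e1'
        - (MonG.col g (π k) x' * σ (MonG.col g (π k) x)) * (mem_nOne.1 (hd k))
        + (MonG.col g k x' * σ (MonG.col g k x)) * hD x'
    refine sign_false hne h2 hM hiso hn hq hno hg hgm hxx h01 h03 hsum (ε := 1) (one_mul 1) ?_ ?_
    · rw [one_mul, ← π0, key]
    · rw [one_mul, ← π1, key]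
  push Not at hfix
  obtain ⟨x, hx⟩ := hfix
  have key : ∀ k, MonG.col g (π k) (ν x) * σ (MonG.col g (π k) x)
      = ((D x : F) * σ (D (ν x) : F)) * σ (MonG.col g k (ν x) * σ (MonG.col g k x)) := fun k => by
    have e1 := hE x k
    have e2 := hE (ν x) k
    rw [hinv] at e2
    have e2' := congrArg σ e2
    simp only [map_mul] at e2'
    simp only [map_mul, h2]
    linear_combination σ (d k : F) * σ (MonG.col g (π k) x) * e1 + ((D x : F) * MonG.col g k x) * e2'
      - (MonG.col g (π k) (ν x) * σ (MonG.col g (π k) x)) * (mem_nOne.1 (hd k))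
  refine sym_false hne h2 hM hiso hn hq hno hg hgm hx.symm h01 h02 h03 h12 h13 h23 hall hsum
    (κ := (D x : F) * σ (D (ν x) : F)) ?_ ?_ ?_
  · rw [map_mul, h2]
    linear_combination ((D (ν x) : F) * σ (D (ν x) : F)) * hD x + hD (ν x)
  · rw [← π0, key]
  · rw [← π1, key]

lemma noline_false {g : GL ι F} (hg : g ∈ M) (hgm : ¬ Mon g) : False := by
  classical
  obtain ⟨i0⟩ : Nonempty ι := Fintype.card_pos_iff.1 (by omega)
  obtain ⟨i1, h10, -⟩ := exists_notMem (by omega) i0 i0 i0
  obtain ⟨i2, h20', h21, -⟩ := exists_notMem (by omega) i0 i1 i1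
  obtain ⟨i3, h30, h31, h32, hall, hsum⟩ :=
    MonFour.exists_enum (F := F) hn h10.symm h20'.symm h21.symm
  set y : ι → F := fun x => σ (MonG.col g x i0)
  set y' : ι → F := fun x => σ (MonG.col g x i1)
  have ph : ∀ z : F, ∃ φ : nOne σ, val φ * z = σ z := fun z =>
    exists_phase (by rw [h2, mul_comm])
  set B₁ := y' i0 * y i1 - y' i1 * y i0 + σ (y' i2 * y i3 - y' i3 * y i2) with hB₁
  set B₂ := y' i0 * y i2 - y' i2 * y i0 + σ (y' i3 * y i1 - y' i1 * y i3) with hB₂
  set B₃ := y' i0 * y i3 - y' i3 * y i0 + σ (y' i1 * y i2 - y' i2 * y i1) with hB₃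
  obtain ⟨φ₁, hφ₁⟩ := ph B₁
  obtain ⟨φ₂, hφ₂⟩ := ph B₂
  obtain ⟨φ₃, hφ₃⟩ := ph B₃
  rcases exists_square_pair φ₁ φ₂ φ₃ with ⟨r, hr⟩ | ⟨r, hr⟩ | ⟨r, hr⟩
  · exact rho_false hne h2 hM hiso hn hq hno hg hgm h10.symm h10.symm h20'.symm h30.symm h21.symm
      h31.symm h32.symm hall hsum (fun _ => rfl) (fun _ => rfl) hB₁ hB₂ hB₃ hφ₁ hφ₂ hr
  · exact rho_false hne h2 hM hiso hn hq hno hg hgm h10.symm h20'.symm h30.symm h10.symm h32.symm
      h21 h31 (fun x => by rcases hall x with h | h | h | h <;> simp [h])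
      (fun φ => by rw [hsum]; ring) (fun _ => rfl) (fun _ => rfl) hB₂ hB₃ hB₁ hφ₂ hφ₃ hr
  · exact rho_false hne h2 hM hiso hn hq hno hg hgm h10.symm h30.symm h10.symm h20'.symm h31 h32
      h21.symm (fun x => by rcases hall x with h | h | h | h <;> simp [h])
      (fun φ => by rw [hsum]; ring) (fun _ => rfl) (fun _ => rfl) hB₃ hB₁ hB₂ hφ₃ hφ₁ hr

omit hno in
/-- Some non-monomial element of `M` fixes a coordinate line. -/
theorem exists_fix_line {g : GL ι F} (hg : g ∈ M) (hgm : ¬ Mon g) :
    ∃ k ∈ M, ¬ Mon k ∧ ∃ a, ∀ y, y ≠ a → (k : Matrix ι ι F) y a = 0 := by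
  by_contra hcon
  exact noline_false hne h2 hM hiso hn hq
    (fun k hk a ha => by_contra fun h => hcon ⟨k, hk, h, a, ha⟩) hg hgm

end CfsgLib.ClassicalMax.UDec.Four
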