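/-
Four-dimensional unitary groups over the field of four elements: the monomial group.
-/
import Cfsg.Agent.Lib.ClassicalMax.UDecompMon
import Cfsg.Agent.Lib.ClassicalMax.MonFour
set_option autoImplicit false
set_option linter.unusedSectionVars false
set_option maxHeartbeats 1000000

namespace CfsgLib.ClassicalMax.UDec.Four

open Matrix Cfsg.Geo MonG Unit

variable {ι : Type} [Fintype ι] [DecidableEq ι] {F : Type*} [Field F] [Fintype F] [DecidableEq F]
  {σ : F ≃+* F} {M : Subgroup (GL ι F)}
  (hne : σ ≠ RingEquiv.refl F) (h2 : ∀ a : F, σ (σ a) = a)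
  (hM : HasU σ M) (hiso : M ≤ isoOf (stdF (ι := ι) σ)) (hn : Fintype.card ι = 4) (hq : qq σ = 2)

include hne h2 hM hiso hn hq

omit hM hiso hn in
lemma norm_one' {x : F} (hx : x ≠ 0) : x * σ x = 1 := by
  have := FiniteField.pow_card_sub_one_eq_one x hx
  rw [card_F hne h2, hq] at this
  rw [(exists_card_eq hne h2).2, ← qq, hq, ← this]
  ring

omit hM hiso hn in
lemma two_zero : (2 : F) = 0 := by
  have h4 := FiniteField.cast_card_eq_zero F
  rw [card_F hne h2, hq] at h4
  exact mul_self_eq_zero.1 (by push_cast at h4; linear_combination h4)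

/-- Transvections with centres on two coordinates are monomial. -/
lemma two_uSet {i j : ι} (hij : i ≠ j) {p r : F} (hpr : p * σ p + r * σ r = 0) :
    (Pi.single i p + Pi.single j r : ι → F) ∈ uSet (isU hne h2) M := by
  classical
  have hf := isU (ι := ι) hne h2
  have h20 := two_zero hne h2 hq
  have hone := fun {x : F} (hx : x ≠ 0) => norm_one' hne h2 hq hx
  have hone' : ∀ {x : F}, x ≠ 0 → (x = 0 → False) := fun h e => h e
  by_cases hp : p = 0
  · have hr : r = 0 := by
      by_contra hr
      rw [hp, zero_mul, zero_add, hone hr] at hpr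
      exact one_ne_zero hpr
    rw [hp, hr, Pi.single_zero, Pi.single_zero, add_zero]
    refine ⟨zero_left hf 0, fun c _ => ?_⟩
    have : uTv hf (0 : ι → F) c = 1 := gl_ext_mulVec fun x => by
      rw [uTv_mulVec hf (zero_left hf 0)]; simp
    rw [this]; exact M.one_mem
  set β := r / p with hβdef
  have hr : r ≠ 0 := fun e => by rw [e, zero_mul, add_zero, hone hp] at hpr; exact one_ne_zero hpr
  have hβ : β * σ β = 1 := hone (div_ne_zero hr hp)
  have hβ0 : β ≠ 0 := div_ne_zero hr hp
  set v : ι → F := Pi.single i 1 + Pi.single j β with hv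
  have e : (Pi.single i p + Pi.single j r : ι → F) = p • v := by
    rw [hv, smul_add, ← Pi.single_smul, ← Pi.single_smul, smul_eq_mul, smul_eq_mul, mul_one,
      hβdef, mul_div_cancel₀ _ hp]
  rw [e]
  refine uSet_smul hf p ?_
  have hvv : stdF σ v v = 0 := by
    simp only [hv, hf.add_left, add_right hf, single_stdF]
    simp [hij, hij.symm, hβ]
    linear_combination h20
  refine ⟨hvv, fun c hc => ?_⟩
  by_cases hc0 : c = 0
  · have : uTv hf v c = 1 := gl_ext_mulVec fun x => by
      rw [uTv_mulVec hf hvv, hc0, zero_mul, zero_smul, add_zero, Units.val_one, one_mulVec]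
    rw [this]; exact M.one_mem
  have hc1 : c = 1 := by
    have h1 := hone hc0
    rw [hc] at h1
    have h3 : (c - 1) * (c - 1) = 0 := by linear_combination -h1 - c * h20
    exact sub_eq_zero.1 (mul_self_eq_zero.1 h3)
  subst hc1
  have hσβ : σ β ≠ 0 := (map_ne_zero σ).2 hβ0
  set d : ι → Fˣ := Function.update (Function.update 1 i (Units.mk0 β hβ0)) j (Units.mk0 (σ β) hσβ)
  have hd : mon (Equiv.swap i j) d ∈ M := by
    refine hM _ _ (fun y => ?_) ?_
    · simp only [d, Function.update_apply]
      split_ifs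
      · exact hone hσβ
      · exact hβ
      · exact (nOne σ).one_mem
    · rw [det_mon, Equiv.Perm.sign_swap hij, Finset.prod_eq_mul i j hij
        (fun y _ hy => by simp [d, hy.1, hy.2]) (by simp) (by simp)]
      simp [d, hij, hβ]
      linear_combination -h20
  have : uTv hf v 1 = mon (Equiv.swap i j) d := gl_ext_mulVec fun x => by
    funext y
    rw [uTv_mulVec hf hvv, mon_mulVec, hv, add_right hf, stdF_single, stdF_single, map_one, mul_one,
      one_mul, Equiv.symm_swap]
    by_cases h1 : y = i
    · subst h1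
      simp [d, hij]
      linear_combination x y * h20
    by_cases h3 : y = j
    · subst h3
      simp [d, hij, h1]
      linear_combination (x y) * hβ + x y * h20
    simp [d, h1, h3, Equiv.swap_apply_of_ne_of_ne h1 h3]
  rw [this]; exact hd

/-- All transvections lie in an overgroup with a non-monomial element. -/
theorem two_all {g : GL ι F} (hg : g ∈ M) (hgm : ¬ Mon g) {v : ι → F} (hv : stdF σ v v = 0) :
    v ∈ uSet (isU hne h2) M := by
  classical
  have hf := isU (ι := ι) hne h2
  have h20 := two_zero hne h2 hq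
  have hone := fun {x : F} (hx : x ≠ 0) => norm_one' hne h2 hq hx
  -- one centre with four non-zero coordinates
  obtain ⟨x, hx, hx0⟩ : ∃ x ∈ uSet (isU hne h2) M, ∀ y, x y ≠ 0 := by
    obtain ⟨b, s, t, hst, hs, ht⟩ : ∃ b s t, s ≠ t ∧ MonG.col g b s ≠ 0 ∧ MonG.col g b t ≠ 0 := by
      by_contra hcon
      push Not at hcon
      apply hgm
      intro b
      obtain ⟨y₀, hy₀⟩ : ∃ y₀, MonG.col g b y₀ ≠ 0 := Function.ne_iff.1 (fun e => by
        have := gl_mulVec_ne_zero g (x := Pi.single b 1) (fun e' => by simpa using congrFun e' b)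
        rw [col_eq'] at this
        exact this e)
      exact ⟨y₀, fun y hy => hcon b y₀ y (Ne.symm hy) hy₀⟩
    obtain ⟨p, hps, hpt, -⟩ := exists_notMem (by omega) s t t
    obtain ⟨p', hp's, hp't, hp'p, hall, hsum⟩ :=
      MonFour.exists_enum (F := F) hn hst hps.symm hpt.symm
    have hcn : ∀ c, MonG.col g c s * σ (MonG.col g c s) + MonG.col g c t * σ (MonG.col g c t)
        + MonG.col g c p * σ (MonG.col g c p) + MonG.col g c p' * σ (MonG.col g c p') = 1 := fun c => by
      rw [← hsum fun y => MonG.col g c y * σ (MonG.col g c y)]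
      exact col_norm hiso hg c
    obtain ⟨k, z, hk, hz, hks, hkt, hzs, hzt, hkz, hall', hsum'⟩ : ∃ k z, MonG.col g b k ≠ 0 ∧
        MonG.col g b z = 0 ∧ k ≠ s ∧ k ≠ t ∧ z ≠ s ∧ z ≠ t ∧ k ≠ z ∧
        (∀ y, y = s ∨ y = t ∨ y = k ∨ y = z) ∧
        ∀ φ : ι → F, ∑ y, φ y = φ s + φ t + φ k + φ z := by
      have h1 := hcn b
      rw [hone hs, hone ht] at h1
      by_cases hp : MonG.col g b p = 0
      · refine ⟨p', p, fun e => ?_, hp, hp's, hp't, hps, hpt, hp'p, fun y => by
          rcases hall y with h | h | h | h <;> simp [h], fun φ => by rw [hsum]; ring⟩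
        rw [hp, e, zero_mul, add_zero, add_zero] at h1
        exact one_ne_zero (α := F) (by linear_combination h20 - h1)
      · refine ⟨p, p', hp, by_contra fun e => ?_, hps, hpt, hp's, hp't, hp'p.symm, hall, hsum⟩
        rw [hone hp, hone e] at h1
        exact one_ne_zero (α := F) (by linear_combination 2 * h20 - h1)
    obtain ⟨c, hc⟩ := exists_row_ne_zero g z
    have hbc : b ≠ c := fun e => hc (e ▸ hz)
    obtain ⟨y₀, hy₀z, hy₀⟩ : ∃ y₀, y₀ ≠ z ∧ MonG.col g c y₀ = 0 := by
      by_contra hcon
      push Not at hcon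
      have h1 := col_norm hiso hg c
      rw [stdF, hsum', hone (hcon s hzs.symm), hone (hcon t hzt.symm), hone (hcon k hkz),
        hone hc] at h1
      exact one_ne_zero (α := F) (by linear_combination 2 * h20 - h1)
    -- the two coordinates other than the zeros
    obtain ⟨k₁, k₂, hall''⟩ : ∃ k₁ k₂, ∀ y, y = z ∨ y = y₀ ∨ y = k₁ ∨ y = k₂ := by
      rcases hall' y₀ with h | h | h | h
      · exact ⟨t, k, fun y => by rcases hall' y with e | e | e | e <;> simp [e, h]⟩
      · exact ⟨s, k, fun y => by rcases hall' y with e | e | e | e <;> simp [e, h]⟩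
      · exact ⟨s, t, fun y => by rcases hall' y with e | e | e | e <;> simp [e, h]⟩
      · exact absurd h hy₀z
    obtain ⟨ζ, hζ1, hζ2⟩ := exists_val_ne hne h2 (-(MonG.col g b k₁ / MonG.col g c k₁))
      (-(MonG.col g b k₂ / MonG.col g c k₂))
    refine ⟨(g : Matrix ι ι F) *ᵥ (Pi.single b 1 + Pi.single c (val ζ)),
      uSet_mulVec hf hg (hiso hg) (two_uSet hne h2 hM hiso hn hq hbc (by
        rw [map_one, val_norm]; linear_combination h20)), fun y => ?_⟩
    rw [mulVec_add, show (Pi.single c (val ζ) : ι → F) = val ζ • Pi.single c 1 by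
      rw [← Pi.single_smul, smul_eq_mul, mul_one], mulVec_smul, col_eq', col_eq', Pi.add_apply,
      Pi.smul_apply, smul_eq_mul]
    have hb : ∀ y, y ≠ z → MonG.col g b y ≠ 0 := fun y hy => by
      rcases hall' y with rfl | rfl | rfl | rfl
      exacts [hs, ht, hk, absurd rfl hy]
    by_cases hyz : y = z
    · rw [hyz, hz, zero_add]; exact mul_ne_zero (val_ne_zero ζ) hc
    by_cases hcy : MonG.col g c y = 0
    · rw [hcy, mul_zero, add_zero]; exact hb y hyz
    intro e
    have hval : val ζ = -(MonG.col g b y / MonG.col g c y) := by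
      rw [← neg_div, eq_div_iff hcy]; linear_combination e
    rcases hall'' y with h | h | h | h
    · exact hyz h
    · exact hcy (h ▸ hy₀)
    · exact hζ1 (h ▸ hval)
    · exact hζ2 (h ▸ hval)
  obtain ⟨i, -⟩ : ∃ i : ι, True := ⟨(Fintype.card_pos_iff.1 (by omega : 0 < Fintype.card ι)).some, trivial⟩
  by_cases hv0 : ∀ y, v y ≠ 0
  · -- phases of product one
    choose D hD using fun y => exists_phase (σ := σ) (p := x y) (r := v y)
      (by rw [hone (hx0 y), hone (hv0 y)])
    set P : nOne σ := ∏ y, D y with hP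
    have hP3 : P ^ 3 = 1 := by
      refine val_injective ?_
      have h1 := val_norm P
      rw [(exists_card_eq hne h2).2, ← qq, hq] at h1
      have : val (P ^ 3) = val P * val P ^ 2 := by simp [val]; ring
      rw [this, h1]; simp [val]
    set d : ι → nOne σ := fun y => D y * P⁻¹
    have hdp : ∏ y, d y = 1 := by
      simp only [d, Finset.prod_mul_distrib, Finset.prod_const, Finset.card_univ, hn, ← hP]
      rw [show (P⁻¹) ^ 4 = (P ^ 3)⁻¹ * P⁻¹ by rw [inv_pow, pow_succ P 3, mul_inv], hP3]
      simp
    have hdM : mon 1 (fun y => (d y : Fˣ)) ∈ M := by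
      refine hM _ _ (fun y => (d y).2) ?_
      have h1 := congrArg (val (σ := σ)) hdp
      simp only [val, Subgroup.val_finsetProd, Units.coe_prod] at h1
      rw [det_mon, map_one]
      simpa using h1
    have h1 := uSet_smul hf (val P) (uSet_mulVec hf hdM (hiso hdM) hx)
    have e : val P • ((mon 1 (fun y => (d y : Fˣ)) : Matrix ι ι F) *ᵥ x) = v := by
      funext y
      rw [Pi.smul_apply, dg_mulVec, smul_eq_mul, ← hD y]
      have := val_ne_zero P
      simp [d, val]
      field_simp
    rwa [e] at h1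
  push Not at hv0
  obtain ⟨l, hl⟩ := hv0
  obtain ⟨s, hsl, -⟩ := exists_notMem (by omega) l l l
  obtain ⟨t, htl, hts, -⟩ := exists_notMem (by omega) l s s
  obtain ⟨k, hkl, hks, hkt, hall, hsum⟩ :=
    MonFour.exists_enum (F := F) hn hsl.symm htl.symm hts.symm
  have hs0 := hv
  rw [stdF, hsum, hl, zero_mul, zero_add] at hs0
  have main : ∀ i j, i ≠ j → (∀ y, y ≠ i → y ≠ j → v y = 0) →
      v ∈ uSet (isU hne h2) M := fun i j hij hz => by
    have e : v = Pi.single i (v i) + Pi.single j (v j) := by
      funext y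
      by_cases h1 : y = i
      · subst h1; simp [hij]
      by_cases h3 : y = j
      · subst h3; simp [h1]
      simp [h1, h3, hz y h1 h3]
    rw [e]
    refine two_uSet hne h2 hM hiso hn hq hij ?_
    rw [stdF, Fintype.sum_eq_add i j hij fun y hy => by rw [hz y hy.1 hy.2, zero_mul]] at hv
    exact hv
  by_cases e1 : v s = 0
  · refine main t k hkt.symm fun y h1 h3 => ?_
    rcases hall y with rfl | rfl | rfl | rfl
    exacts [hl, e1, absurd rfl h1, absurd rfl h3]
  by_cases e2 : v t = 0
  · refine main s k hks.symm fun y h1 h3 => ?_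
    rcases hall y with rfl | rfl | rfl | rfl
    exacts [hl, absurd rfl h1, e2, absurd rfl h3]
  by_cases e3 : v k = 0
  · refine main s t hts.symm fun y h1 h3 => ?_
    rcases hall y with rfl | rfl | rfl | rfl
    exacts [hl, absurd rfl h1, absurd rfl h3, e3]
  rw [hone e1, hone e2, hone e3] at hs0
  exact absurd (show (1 : F) = 0 by linear_combination hs0 - h20) one_ne_zero

end CfsgLib.ClassicalMax.UDec.Four
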