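/-
Stabilisers of a pair of complementary totally singular planes are maximal in four-dimensional
unitary groups over fields with at least four fixed elements.
-/
import Cfsg.Agent.Lib.ClassicalMax.UnitPair
import Cfsg.Agent.Lib.ClassicalMax.UnitFour
import Cfsg.Agent.Lib.ClassicalMax.UnitFourDecomp.Gen
set_option autoImplicit false
set_option linter.unusedSectionVars false
set_option maxHeartbeats 800000

namespace CfsgLib.ClassicalMax.Unit.PairFour

open Matrix Cfsg.Geo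

variable {ι : Type} [Fintype ι] [DecidableEq ι] {F : Type*} [Field F] [Fintype F]
  {σ : F ≃+* F} {f : (ι → F) → (ι → F) → F}

/-- Two complementary totally singular planes. -/
structure IsPair (σ : F ≃+* F) (f : (ι → F) → (ι → F) → F) (A B : Submodule F (ι → F)) : Prop where
  hf : IsUnitaryForm σ f
  tsA : ∀ a ∈ A, ∀ a' ∈ A, f a a' = 0
  tsB : ∀ b ∈ B, ∀ b' ∈ B, f b b' = 0
  split : ∀ x, ∃ a ∈ A, ∃ b ∈ B, a + b = x
  disj : A ⊓ B = ⊥
  dimA : Module.finrank F A = 2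
  dimB : Module.finrank F B = 2

variable {A B : Submodule F (ι → F)}

omit [Fintype F] in
lemma IsPair.symm (P : IsPair σ f A B) : IsPair σ f B A where
  hf := P.hf
  tsA := P.tsB
  tsB := P.tsA
  split x := by
    obtain ⟨a, ha, b, hb, h⟩ := P.split x
    exact ⟨b, hb, a, ha, by rw [← h, add_comm]⟩
  disj := by rw [inf_comm, P.disj]
  dimA := P.dimB
  dimB := P.dimA

omit [Fintype F] in
lemma IsPair.exists_ne (P : IsPair σ f A B) {a : ι → F} (ha : a ∈ A) (ha0 : a ≠ 0) :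
    ∃ b ∈ B, f a b ≠ 0 := by
  by_contra hcon
  push Not at hcon
  obtain ⟨x, hx⟩ := (P.hf.nondegenerate a ha0).2
  obtain ⟨c, hc, b, hb, rfl⟩ := P.split x
  exact hx (by rw [add_right P.hf, P.tsA a ha c hc, hcon b hb, add_zero])

lemma IsPair.sep (P : IsPair σ f A B) {u : ι → F} (hu : u ∈ B) {k : ℕ} (s : Fin k → ι → F)
    (hs : ∀ i, s i ∈ B) (hu' : u ∉ Submodule.span F (Set.range s)) :
    ∃ a ∈ A, f u a = 1 ∧ ∀ i, f (s i) a = 0 := by
  obtain ⟨φ, hφu, hφs⟩ := Submodule.exists_dual_map_eq_bot_of_notMem hu' inferInstance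
  obtain ⟨z, hz⟩ := Unit.exists_form_eq P.hf φ
  obtain ⟨a, ha, b, hb, rfl⟩ := P.split z
  have h : ∀ w ∈ B, f w a = φ w := fun w hw => by
    rw [← hz, add_right P.hf, P.tsB w hw b hb, add_zero]
  refine ⟨σ (φ u)⁻¹ • a, A.smul_mem _ ha, by
    rw [smul_right P.hf, P.hf.involutive, h u hu, inv_mul_cancel₀ hφu], fun i => ?_⟩
  have h0 : φ (s i) = 0 := (Submodule.mem_bot F).1
    (hφs ▸ Submodule.mem_map_of_mem (Submodule.subset_span ⟨i, rfl⟩))
  rw [smul_right P.hf, h (s i) (hs i), h0, mul_zero]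

omit [Fintype F] in
lemma IsPair.nonzero (P : IsPair σ f A B) : ∃ a ∈ A, a ≠ 0 :=
  Submodule.exists_mem_ne_zero_of_ne_bot fun h => by
    have := P.dimA; rw [h, finrank_bot] at this; omega

omit [Fintype F] in
/-- A vector of a plane outside the span of another one. -/
lemma IsPair.exists_notMem (P : IsPair σ f A B) (a : ι → F) :
    ∃ x ∈ A, x ∉ Submodule.span F {a} := by
  apply SetLike.not_le_iff_exists.1
  intro hle
  have h1 := Submodule.finrank_mono hle
  have h2 := finrank_span_le_card (R := F) ({a} : Set (ι → F))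
  rw [P.dimA] at h1
  simp at h2
  omega

omit [Fintype F] in
/-- Every vector of `A` is orthogonal to a non-zero vector of `B`. -/
lemma IsPair.exists_orth (P : IsPair σ f A B) (a : ι → F) : ∃ b ∈ B, b ≠ 0 ∧ f a b = 0 := by
  obtain ⟨b, hb, hb0⟩ := Submodule.exists_mem_ne_zero_of_ne_bot
    (p := LinearMap.ker ((formL P.hf a).domRestrict B)) (fun e => by
      have h1 := LinearMap.finrank_le_finrank_of_injective (LinearMap.ker_eq_bot.1 e)
      rw [Module.finrank_self, P.dimB] at h1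
      omega)
  exact ⟨b, b.2, fun e => hb0 (Subtype.ext e), eq_zero_comm P.hf hb⟩

omit [Fintype F] in
lemma IsPair.mem_span_of_orth (P : IsPair σ f A B) {a b x : ι → F} (ha : a ∈ A) (ha0 : a ≠ 0)
    (hb : b ∈ B) (hb0 : b ≠ 0) (hab : f a b = 0) (hx : x ∈ A) (hxb : f x b = 0) :
    x ∈ Submodule.span F {a} := by
  by_contra hxa
  obtain ⟨c, hc, hbc⟩ := P.symm.exists_ne hb hb0
  have hspan : Submodule.span F (Set.range ![a, x]) = A :=
    Submodule.eq_of_le_of_finrank_eq (Submodule.span_le.2 (Set.range_subset_iff.2 fun i => by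
      fin_cases i <;> assumption)) (by
      rw [finrank_span_eq_card ((LinearIndependent.pair_iff' ha0).2 fun l e =>
        hxa (Submodule.mem_span_singleton.2 ⟨l, e⟩)), P.dimA, Fintype.card_fin])
  rw [← hspan, Matrix.range_cons_cons_empty, Submodule.mem_span_pair] at hc
  obtain ⟨p, r, rfl⟩ := hc
  apply hbc
  rw [add_right P.hf, smul_right P.hf, smul_right P.hf, eq_zero_comm P.hf hab,
    eq_zero_comm P.hf hxb, mul_zero, mul_zero, add_zero]

variable [DecidableEq F]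

omit [Fintype F] in
/-- Short root elements on a totally singular line, in a fixed basis. -/
lemma ush_expand (hf : IsUnitaryForm σ f) {a b : ι → F} (ha : f a a = 0) (hb : f b b = 0)
    (hab : f a b = 0) (α β γ δ c : F) :
    ush hf (α • a + β • b) (γ • a + δ • b) c
      = ush hf a b (c * σ α * δ - σ c * σ γ * β) * uTv hf a (c * σ α * γ - σ (c * σ α * γ))
        * uTv hf b (c * σ β * δ - σ (c * σ β * δ)) := by
  have hba := eq_zero_comm hf hab
  have h1 : f (α • a + β • b) (α • a + β • b) = 0 := by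
    simp [hf.add_left, add_right hf, hf.smul_left, smul_right hf, ha, hb, hab, hba]
  have h2 : f (α • a + β • b) (γ • a + δ • b) = 0 := by
    simp [hf.add_left, add_right hf, hf.smul_left, smul_right hf, ha, hb, hab, hba]
  refine gl_ext_mulVec fun x => ?_
  simp only [gl_mulVec_mul, ush_mulVec hf h1 h2, ush_mulVec hf ha hab, uTv_mulVec hf ha,
    uTv_mulVec hf hb, sub_left hf, hf.add_left, add_right hf, hf.smul_left, smul_right hf, ha, hb,
    hab, hba, map_mul, map_sub, hf.involutive]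
  module

omit [Fintype F] in
/-- Transvections with centre on a totally singular line, in a fixed basis. -/
lemma uTv_expand (hf : IsUnitaryForm σ f) {a b : ι → F} (ha : f a a = 0) (hb : f b b = 0)
    (hab : f a b = 0) (α β : F) {k : F} (hk : σ k = -k) :
    uTv hf (α • a + β • b) k
      = ush hf a b (k * σ α * β) * uTv hf a (k * (α * σ α)) * uTv hf b (k * (β * σ β)) := by
  have hba := eq_zero_comm hf hab
  have h1 : f (α • a + β • b) (α • a + β • b) = 0 := by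
    simp [hf.add_left, add_right hf, hf.smul_left, smul_right hf, ha, hb, hab, hba]
  refine gl_ext_mulVec fun x => ?_
  simp only [gl_mulVec_mul, uTv_mulVec hf h1, ush_mulVec hf ha hab, uTv_mulVec hf ha,
    uTv_mulVec hf hb, hf.add_left, add_right hf, hf.smul_left, smul_right hf, ha, hb,
    hab, hba, map_mul, hk, hf.involutive]
  module

/-- An isometry of determinant one scaling one vector of `B` and fixing an orthogonal one of `A`. -/
lemma IsPair.exists_scale (P : IsPair σ f A B) {a b : ι → F} (ha : a ∈ A) (hb : b ∈ B)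
    (hb0 : b ≠ 0) (hab : f a b = 0) {β : F} (hβ0 : β ≠ 0) (hβ : σ β = β) :
    ∃ h ∈ isoOf f ⊓ specialLinear ι F, (∀ x ∈ A, (h : Matrix ι ι F) *ᵥ x ∈ A) ∧
      (∀ y ∈ B, (h : Matrix ι ι F) *ᵥ y ∈ B) ∧ (h : Matrix ι ι F) *ᵥ a = a ∧
      (h : Matrix ι ι F) *ᵥ b = β • b := by
  have hf := P.hf
  obtain ⟨a₀, ha₀, hne⟩ := P.symm.exists_ne hb hb0
  obtain ⟨a₂, ha₂, hba₂⟩ : ∃ a₂ ∈ A, f b a₂ = 1 :=
    ⟨σ (f b a₀)⁻¹ • a₀, A.smul_mem _ ha₀, by
      rw [smul_right hf, hf.involutive, inv_mul_cancel₀ hne]⟩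
  have ha₂b : f a₂ b = 1 := by rw [hf.herm, hba₂, map_one]
  have hbb := P.tsB b hb b hb
  have haa := P.tsA a₂ ha₂ a₂ ha₂
  have d1 : formDual hf a₂ ⬝ᵥ b = 1 := by rw [formDual_dot, hba₂]
  have d2 : formDual hf b ⬝ᵥ a₂ = 1 := by rw [formDual_dot, ha₂b]
  set h : GL ι F := MonG.psGL b (formDual hf a₂) β * MonG.psGL a₂ (formDual hf b) β⁻¹ with hdef
  have hx : ∀ x, (h : Matrix ι ι F) *ᵥ x
      = x + ((β - 1) * f x a₂) • b + ((β⁻¹ - 1) * f x b) • a₂ := by
    intro x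
    simp only [hdef, gl_mulVec_mul, MonG.psGL_mulVec d1 hβ0,
      MonG.psGL_mulVec d2 (inv_ne_zero hβ0), formDual_dot, hf.add_left, hf.smul_left, haa, mul_zero,
      add_zero]
    abel
  refine ⟨h, ⟨fun x y => ?_, ?_⟩, fun x hx' => ?_, fun y hy => ?_, ?_, ?_⟩
  · change f ((h : Matrix ι ι F) *ᵥ x) ((h : Matrix ι ι F) *ᵥ y) = f x y
    rw [hx, hx]
    simp only [hf.add_left, add_right hf, hf.smul_left, smul_right hf, hbb, haa, hba₂, ha₂b,
      map_mul, map_sub, map_one, map_inv₀, hβ, ← hf.herm]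
    field_simp
    ring
  · change Matrix.GeneralLinearGroup.det h = 1
    refine Units.ext ?_
    simp only [hdef, Matrix.GeneralLinearGroup.val_det_apply, Units.val_mul, det_mul,
      det_psGL_gen d1 hβ0, det_psGL_gen d2 (inv_ne_zero hβ0), Units.val_one]
    field_simp
  · rw [hx, P.tsA x hx' a₂ ha₂, mul_zero, zero_smul, add_zero]
    exact A.add_mem hx' (A.smul_mem _ ha₂)
  · rw [hx, P.tsB y hy b hb, mul_zero, zero_smul, add_zero]
    exact B.add_mem hy (B.smul_mem _ hb)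
  · rw [hx, P.tsA a ha a₂ ha₂, hab]; simp
  · rw [hx, hbb, hba₂]; module

variable {M : Subgroup (GL ι F)}

/-- `M` contains the elements of determinant one preserving both subspaces. -/
def Stab (f : (ι → F) → (ι → F) → F) (A B : Submodule F (ι → F)) (M : Subgroup (GL ι F)) : Prop :=
  ∀ h ∈ isoOf f ⊓ specialLinear ι F, (∀ a ∈ A, (h : Matrix ι ι F) *ᵥ a ∈ A) →
    (∀ b ∈ B, (h : Matrix ι ι F) *ᵥ b ∈ B) → h ∈ M

omit [Fintype F] [DecidableEq F] in
lemma Stab.symm (hM : Stab f A B M) : Stab f B A M := fun h hh h1 h2 => hM h hh h2 h1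

omit [Fintype F] in
lemma Stab.ush_mem (P : IsPair σ f A B) (hM : Stab f A B M) {a b : ι → F} (ha : a ∈ A) (hb : b ∈ B)
    (hab : f a b = 0) (c : F) : ush P.hf a b c ∈ M := by
  have hf := P.hf
  refine hM _ ⟨ush_mem_isoOf hf (P.tsA a ha a ha) (P.tsB b hb b hb) hab _, ush_mem_sl hf _ _ _⟩
    (fun x hx => ?_) (fun x hx => ?_)
  · rw [ush_mulVec hf (P.tsA a ha a ha) hab, P.tsA x hx a ha, mul_zero, zero_smul, add_zero]
    exact A.sub_mem hx (A.smul_mem _ ha)
  · rw [ush_mulVec hf (P.tsA a ha a ha) hab, P.tsB x hx b hb, mul_zero, zero_smul, sub_zero]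
    exact B.add_mem hx (B.smul_mem _ hb)

/-- A product of two orthogonal transvections on the subspaces yields a single one. -/
lemma transvection_of_pair (P : IsPair σ f A B) (hM : Stab f A B M)
    (hβ : ∃ β : F, β ≠ 0 ∧ σ β = β ∧ β * β ≠ 1) {a b : ι → F} (ha : a ∈ A) (ha0 : a ≠ 0)
    (hb : b ∈ B) (hb0 : b ≠ 0) (hab : f a b = 0) {k₁ k₂ : F} (hk₁ : σ k₁ = -k₁) (hk₂ : σ k₂ = -k₂)
    (hk : k₁ ≠ 0 ∨ k₂ ≠ 0) (h : uTv P.hf a k₁ * uTv P.hf b k₂ ∈ M) :
    ∃ p, (p ∈ A ∨ p ∈ B) ∧ p ≠ 0 ∧ ∃ k : F, k ≠ 0 ∧ σ k = -k ∧ uTv P.hf p k ∈ M := by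
  have hf := P.hf
  have hone : ∀ v : ι → F, uTv hf v (0 : F) = 1 := fun v => by rw [uTv, zero_smul, tvGL_zero_right]
  by_cases h2 : k₂ = 0
  · rw [h2, hone, mul_one] at h
    exact ⟨a, Or.inl ha, ha0, k₁, hk.resolve_right (fun e => e h2), hk₁, h⟩
  by_cases h1 : k₁ = 0
  · rw [h1, hone, one_mul] at h
    exact ⟨b, Or.inr hb, hb0, k₂, h2, hk₂, h⟩
  obtain ⟨β, hβ0, hβσ, hβ1⟩ := hβ
  obtain ⟨s, hs, hsA, hsB, hsa, hsb⟩ := P.exists_scale ha hb hb0 hab hβ0 hβσ
  have hsM := hM s hs hsA hsB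
  have h' := M.mul_mem (M.mul_mem hsM h) (M.inv_mem hsM)
  have haa := P.tsA a ha a ha
  have hbb := P.tsB b hb b hb
  have e : s * (uTv hf a k₁ * uTv hf b k₂) * s⁻¹ = uTv hf a k₁ * uTv hf b (k₂ * (β * β)) := by
    rw [show s * (uTv hf a k₁ * uTv hf b k₂) * s⁻¹
        = (s * uTv hf a k₁ * s⁻¹) * (s * uTv hf b k₂ * s⁻¹) by group,
      uTv_conj hf hs.1 haa, uTv_conj hf hs.1 hbb, hsa, hsb]
    congr 1
    refine gl_ext_mulVec fun x => ?_
    rw [uTv_mulVec hf (by rw [hf.smul_left, smul_right hf, hbb, mul_zero, mul_zero]),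
      uTv_mulVec hf hbb, smul_right hf, hβσ]
    module
  rw [e] at h'
  have h3 := M.mul_mem (M.inv_mem h) h'
  rw [_root_.mul_inv_rev, mul_assoc, inv_mul_cancel_left, uTv_inv_eq hf hbb] at h3
  refine ⟨b, Or.inr hb, hb0, k₂ * (β * β - 1), mul_ne_zero h2 (sub_ne_zero.2 hβ1), by
    rw [map_mul, map_sub, map_mul, map_one, hk₂, hβσ]; ring, ?_⟩
  convert h3 using 1
  refine gl_ext_mulVec fun x => ?_
  simp only [gl_mulVec_mul, uTv_mulVec hf hbb, hf.add_left, hf.smul_left, hbb]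
  module

/-- An element sending an orthogonal pair of the subspaces to such a pair gives a transvection. -/
lemma transvection_of_aligned (P : IsPair σ f A B) (hM : Stab f A B M)
    (hβ : ∃ β : F, β ≠ 0 ∧ σ β = β ∧ β * β ≠ 1) {g : GL ι F} (hg : g ∈ M)
    (hgK : g ∈ isoOf f ⊓ specialLinear ι F)
    (hgH : ¬ ((∀ x ∈ A, (g : Matrix ι ι F) *ᵥ x ∈ A) ∧ ∀ y ∈ B, (g : Matrix ι ι F) *ᵥ y ∈ B))
    {z w : ι → F} (hz : z ∈ A) (hz0 : z ≠ 0) (hw : w ∈ B) (hw0 : w ≠ 0) (hzw : f z w = 0)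
    (hgz : (g : Matrix ι ι F) *ᵥ z ∈ A) (hgw : (g : Matrix ι ι F) *ᵥ w ∈ B) :
    ∃ p, (p ∈ A ∨ p ∈ B) ∧ p ≠ 0 ∧ ∃ k : F, k ≠ 0 ∧ σ k = -k ∧ uTv P.hf p k ∈ M := by
  have hf := P.hf
  set a := (g : Matrix ι ι F) *ᵥ z with hadef
  set b := (g : Matrix ι ι F) *ᵥ w with hbdef
  have ha0 : a ≠ 0 := gl_mulVec_ne_zero g hz0
  have hb0 : b ≠ 0 := gl_mulVec_ne_zero g hw0
  have hab : f a b = 0 := (hgK.1 z w).trans hzw
  -- the component of the image of `x` outside its subspace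
  have side : ∀ {A B : Submodule F (ι → F)} (P : IsPair σ f A B) {z w : ι → F}, z ∈ A → z ≠ 0 →
      w ∈ B → w ≠ 0 → (g : Matrix ι ι F) *ᵥ z ∈ A → (g : Matrix ι ι F) *ᵥ w ∈ B → f z w = 0 →
      ∀ {x : ι → F}, x ∈ A → x ∉ Submodule.span F {z} →
      ∃ k : F, σ k = -k ∧ ∀ y ∈ A,
        (uTv hf ((g : Matrix ι ι F) *ᵥ w) k : Matrix ι ι F) *ᵥ ((g : Matrix ι ι F) *ᵥ y) ∈ A := by
    intro A B P z w hz hz0 hw hw0 hgz hgw hzw x hx hxz
    obtain ⟨a', ha', b', hb', hx'⟩ := P.split ((g : Matrix ι ι F) *ᵥ x)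
    set a := (g : Matrix ι ι F) *ᵥ z
    set b := (g : Matrix ι ι F) *ᵥ w
    have hab : f a b = 0 := (hgK.1 z w).trans hzw
    have hbb := P.tsB b hgw b hgw
    have e1 : f b' a = 0 := by
      have e : f (a' + b') a = 0 := by rw [hx']; exact (hgK.1 x z).trans (P.tsA x hx z hz)
      rwa [hf.add_left, P.tsA a' ha' a hgz, zero_add] at e
    obtain ⟨t, rfl⟩ := Submodule.mem_span_singleton.1 (P.symm.mem_span_of_orth hgw
      (gl_mulVec_ne_zero g hw0) hgz (gl_mulVec_ne_zero g hz0) (eq_zero_comm hf hab) hb' e1)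
    have hne : f a' b ≠ 0 := by
      intro e
      obtain ⟨r, hr⟩ := Submodule.mem_span_singleton.1 (P.mem_span_of_orth hgz
        (gl_mulVec_ne_zero g hz0) hgw (gl_mulVec_ne_zero g hw0) hab ha' e)
      have hxe : x = r • z + t • w := gl_mulVec_injective g (by
        beta_reduce
        rw [mulVec_add, mulVec_smul, mulVec_smul, hr, hx'])
      have htw : t • w ∈ A ⊓ B := by
        refine ⟨?_, B.smul_mem _ hw⟩
        rw [show t • w = x - r • z by rw [hxe]; abel]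
        exact A.sub_mem hx (A.smul_mem _ hz)
      rw [P.disj, Submodule.mem_bot] at htw
      exact hxz (Submodule.mem_span_singleton.2 ⟨r, by rw [hxe, htw, add_zero]⟩)
    have hskew : σ t * f a' b + t * σ (f a' b) = 0 := by
      have e : f (a' + t • b) (a' + t • b) = 0 := by
        rw [hx']; exact (hgK.1 x x).trans (P.tsA x hx x hx)
      rw [hf.add_left, add_right hf, add_right hf, hf.smul_left, hf.smul_left, smul_right hf,
        smul_right hf, hbb, P.tsA a' ha' a' ha', hf.herm b a'] at e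
      linear_combination e
    have hne' : σ (f a' b) ≠ 0 := (map_ne_zero σ).2 hne
    refine ⟨-t / f a' b, by
      rw [map_div₀, map_neg]; field_simp; linear_combination -hskew, fun y hy => ?_⟩
    obtain ⟨p, r, rfl⟩ : ∃ p r : F, p • z + r • x = y := by
      rw [← Submodule.mem_span_pair, ← Matrix.range_cons_cons_empty z x ![],
        Submodule.eq_of_le_of_finrank_eq (Submodule.span_le.2 (Set.range_subset_iff.2 fun i => by
          fin_cases i <;> assumption)) (by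
          rw [finrank_span_eq_card ((LinearIndependent.pair_iff' hz0).2 fun l e =>
            hxz (Submodule.mem_span_singleton.2 ⟨l, e⟩)), P.dimA, Fintype.card_fin])]
      exact hy
    have hxa : (uTv hf b (-t / f a' b) : Matrix ι ι F) *ᵥ ((g : Matrix ι ι F) *ᵥ x) = a' := by
      rw [uTv_mulVec hf hbb, ← hx', hf.add_left, hf.smul_left, hbb, mul_zero, add_zero,
        div_mul_cancel₀ _ hne, neg_smul, add_neg_cancel_right]
    rw [mulVec_add, mulVec_smul, mulVec_smul, mulVec_add, mulVec_smul, mulVec_smul, hxa,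
      uTv_mulVec_of_orth hf hbb _ hab]
    exact A.add_mem (A.smul_mem _ hgz) (A.smul_mem _ ha')
  obtain ⟨x, hx, hxz⟩ := P.exists_notMem z
  obtain ⟨y, hy, hyw⟩ := P.symm.exists_notMem w
  obtain ⟨k₂, hk₂, hA⟩ := side P hz hz0 hw hw0 hgz hgw hzw hx hxz
  obtain ⟨k₁, hk₁, hB⟩ := side P.symm hw hw0 hz hz0 hgw hgz (eq_zero_comm hf hzw) hy hyw
  have haa := P.tsA a hgz a hgz
  have hbb := P.tsB b hgw b hgw
  have hfixA : ∀ v ∈ A, (uTv hf a k₁ : Matrix ι ι F) *ᵥ v = v := fun v hv =>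
    uTv_mulVec_of_orth hf haa _ (P.tsA v hv a hgz)
  have hfixB : ∀ v ∈ B, (uTv hf b k₂ : Matrix ι ι F) *ᵥ v = v := fun v hv =>
    uTv_mulVec_of_orth hf hbb _ (P.tsB v hv b hgw)
  have hcomm : ∀ v, (uTv hf a k₁ : Matrix ι ι F) *ᵥ ((uTv hf b k₂ : Matrix ι ι F) *ᵥ v)
      = (uTv hf b k₂ : Matrix ι ι F) *ᵥ ((uTv hf a k₁ : Matrix ι ι F) *ᵥ v) := fun v => by
    simp only [uTv_mulVec hf haa, uTv_mulVec hf hbb, hf.add_left, hf.smul_left, hab,
      eq_zero_comm hf hab]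
    module
  have hRg : uTv hf a k₁ * uTv hf b k₂ * g ∈ M := by
    refine hM _ (mul_mem (mul_mem ⟨uTv_mem_isoOf hf haa hk₁, uTv_mem_sl hf _ _⟩
      ⟨uTv_mem_isoOf hf hbb hk₂, uTv_mem_sl hf _ _⟩) hgK) (fun v hv => ?_) (fun v hv => ?_)
    · rw [gl_mulVec_mul, gl_mulVec_mul, hfixA _ (hA v hv)]
      exact hA v hv
    · rw [gl_mulVec_mul, gl_mulVec_mul, hcomm, hfixB _ (hB v hv)]
      exact hB v hv
  refine transvection_of_pair P hM hβ hgz ha0 hgw hb0 hab hk₁ hk₂ ?_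
    ((M.mul_mem_cancel_right hg).1 hRg)
  by_contra hcon
  push Not at hcon
  apply hgH
  have h0 : ∀ u : ι → F, uTv hf u (0 : F) = 1 := fun u => by rw [uTv, zero_smul, tvGL_zero_right]
  refine ⟨fun v hv => ?_, fun v hv => ?_⟩
  · have := hA v hv; rwa [hcon.2, h0, Units.val_one, one_mulVec] at this
  · have := hB v hv; rwa [hcon.1, h0, Units.val_one, one_mulVec] at this

omit [DecidableEq F] in
/-- A non-zero vector of `A` whose image has orthogonal components. -/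
lemma exists_orth_image (P : IsPair σ f A B) {g : GL ι F} (hg : g ∈ isoOf f) :
    ∃ z ∈ A, z ≠ 0 ∧ ∃ u₁ ∈ A, ∃ u₂ ∈ B, u₁ + u₂ = (g : Matrix ι ι F) *ᵥ z ∧ f u₁ u₂ = 0 := by
  have hf := P.hf
  obtain ⟨x₁, hx₁, hx₁0⟩ := P.nonzero
  obtain ⟨x₂, hx₂, hx₂s⟩ := P.exists_notMem x₁
  obtain ⟨a₁, ha₁, b₁, hb₁, e₁⟩ := P.split ((g : Matrix ι ι F) *ᵥ x₁)
  obtain ⟨a₂, ha₂, b₂, hb₂, e₂⟩ := P.split ((g : Matrix ι ι F) *ᵥ x₂)
  by_cases h1 : f a₁ b₁ = 0
  · exact ⟨x₁, hx₁, hx₁0, a₁, ha₁, b₁, hb₁, e₁, h1⟩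
  have key : ∀ {x y a b a' b' : ι → F}, x ∈ A → y ∈ A → a ∈ A → b ∈ B → a' ∈ A → b' ∈ B →
      a + b = (g : Matrix ι ι F) *ᵥ x → a' + b' = (g : Matrix ι ι F) *ᵥ y →
      f a b' + σ (f a' b) = 0 := by
    intro x y a b a' b' hx hy ha hb ha' hb' e e'
    have h : f (a + b) (a' + b') = 0 := by rw [e, e']; exact (hg x y).trans (P.tsA x hx y hy)
    rwa [hf.add_left, add_right hf, add_right hf, P.tsA a ha a' ha', P.tsB b hb b' hb', zero_add,
      add_zero, hf.herm b a'] at h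
  have s1 := key hx₁ hx₁ ha₁ hb₁ ha₁ hb₁ e₁ e₁
  have s2 := key hx₂ hx₂ ha₂ hb₂ ha₂ hb₂ e₂ e₂
  have s3 := key hx₁ hx₂ ha₁ hb₁ ha₂ hb₂ e₁ e₂
  set φ₁ := f a₁ b₁ with hφ₁
  set φ₂ := f a₂ b₂ with hφ₂
  set p := f a₁ b₂ with hp
  have s1' : σ φ₁ = -φ₁ := by linear_combination s1
  have s2' : σ φ₂ = -φ₂ := by linear_combination s2
  have s3' : f a₂ b₁ = -σ p := by
    have := congrArg σ s3
    rw [map_add, hf.involutive, map_zero] at this
    linear_combination this
  have hne : σ φ₁ ≠ 0 := (map_ne_zero σ).2 h1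
  obtain ⟨m, hm⟩ := exists_norm_eq hf.ne_refl hf.involutive
    (s := -(p * σ p / φ₁ + φ₂) / φ₁) (by
      rw [map_div₀, map_neg, map_add, map_div₀, map_mul, hf.involutive, s1', s2']
      field_simp
      ring)
  set l := m + σ p / φ₁ with hl
  refine ⟨l • x₁ + x₂, A.add_mem (A.smul_mem _ hx₁) hx₂, fun e => ?_, l • a₁ + a₂,
    A.add_mem (A.smul_mem _ ha₁) ha₂, l • b₁ + b₂, B.add_mem (B.smul_mem _ hb₁) hb₂, ?_, ?_⟩
  · exact hx₂s (Submodule.mem_span_singleton.2 ⟨-l, by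
      rw [neg_smul]; exact (eq_neg_of_add_eq_zero_right e).symm⟩)
  · rw [mulVec_add, mulVec_smul, ← e₁, ← e₂]; module
  · rw [hf.add_left, add_right hf, add_right hf, hf.smul_left, hf.smul_left, smul_right hf,
      smul_right hf, ← hφ₁, ← hφ₂, ← hp, s3', hl, map_add, map_div₀, hf.involutive, s1']
    field_simp at hm ⊢
    linear_combination hm

/-- An element outside the stabiliser gives a transvection on one of the planes. -/
lemma exists_transvection (P : IsPair σ f A B) (hM : Stab f A B M)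
    (hβ : ∃ β : F, β ≠ 0 ∧ σ β = β ∧ β * β ≠ 1) {g : GL ι F} (hg : g ∈ M)
    (hgK : g ∈ isoOf f ⊓ specialLinear ι F)
    (hgA : ¬ ((∀ x ∈ A, (g : Matrix ι ι F) *ᵥ x ∈ A) ∧ ∀ y ∈ B, (g : Matrix ι ι F) *ᵥ y ∈ B))
    {s : GL ι F} (hs : s ∈ M) (hsK : s ∈ isoOf f ⊓ specialLinear ι F)
    (hsA : ∀ a ∈ A, (s : Matrix ι ι F) *ᵥ a ∈ B) (hsB : ∀ b ∈ B, (s : Matrix ι ι F) *ᵥ b ∈ A)
    (hgB : ¬ ((∀ x ∈ A, (g : Matrix ι ι F) *ᵥ x ∈ B) ∧ ∀ y ∈ B, (g : Matrix ι ι F) *ᵥ y ∈ A)) :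
    ∃ p, (p ∈ A ∨ p ∈ B) ∧ p ≠ 0 ∧ ∃ k : F, k ≠ 0 ∧ σ k = -k ∧ uTv P.hf p k ∈ M := by
  have hf := P.hf
  obtain ⟨z, hz, hz0, u₁, hu₁, u₂, hu₂, hu, hu₁₂⟩ := exists_orth_image P hgK.1
  obtain ⟨w, hw, hw0, hzw⟩ := P.exists_orth z
  -- the line through the image
  obtain ⟨a, ha, ha0, b, hb, hb0, hab, α, β, hα, hβ', hgz, hαβ⟩ : ∃ a ∈ A, a ≠ 0 ∧ ∃ b ∈ B, b ≠ 0 ∧
      f a b = 0 ∧ ∃ α β : F, σ α = α ∧ σ β = β ∧ α • a + β • b = (g : Matrix ι ι F) *ᵥ z ∧
        (α = 1 ∨ (α = 0 ∧ β = 1)) := by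
    by_cases h1 : u₁ = 0
    · obtain ⟨a, ha, ha0, h⟩ := P.symm.exists_orth u₂
      refine ⟨a, ha, ha0, u₂, hu₂, fun e => gl_mulVec_ne_zero g hz0 (by rw [← hu, h1, e, add_zero]),
        eq_zero_comm hf h, 0, 1, map_zero σ, map_one σ, by rw [← hu, h1]; simp, Or.inr ⟨rfl, rfl⟩⟩
    by_cases h2 : u₂ = 0
    · obtain ⟨b, hb, hb0, h⟩ := P.exists_orth u₁
      exact ⟨u₁, hu₁, h1, b, hb, hb0, h, 1, 0, map_one σ, map_zero σ, by rw [← hu, h2]; simp,
        Or.inl rfl⟩
    exact ⟨u₁, hu₁, h1, u₂, hu₂, h2, hu₁₂, 1, 1, map_one σ, map_one σ, by simp [hu], Or.inl rfl⟩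
  have haa := P.tsA a ha a ha
  have hbb := P.tsB b hb b hb
  have hzz := P.tsA z hz z hz
  have hww := P.tsB w hw w hw
  set gz := (g : Matrix ι ι F) *ᵥ z with hgzdef
  set gw := (g : Matrix ι ι F) *ᵥ w with hgwdef
  have hgzz : f gz gz = 0 := (hgK.1 z z).trans hzz
  have hgww : f gw gw = 0 := (hgK.1 w w).trans hww
  have hgzw : f gz gw = 0 := (hgK.1 z w).trans hzw
  have key : ∀ c, ush hf gz gw c ∈ M := fun c => by
    rw [← ush_conj hf hgK.1 hzz hzw]
    exact M.mul_mem (M.mul_mem hg (hM.ush_mem P hz hw hzw c)) (M.inv_mem hg)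
  have hab' : ∀ e, ush hf a b e ∈ M := hM.ush_mem P ha hb hab
  by_cases hline : f gw a = 0 ∧ f gw b = 0
  swap
  · -- two root elements at one point
    obtain ⟨v, hvv, hzv, hvw, hvM⟩ : ∃ v, f v v = 0 ∧ f gz v = 0 ∧ f v gw ≠ 0 ∧
        ush hf gz v 1 ∈ M := by
      have hgw0 : α * f gw a + β * f gw b = 0 := by
        have h := eq_zero_comm hf hgzw
        rwa [← hgz, add_right hf, smul_right hf, smul_right hf, hα, hβ'] at h
      rcases hαβ with h1 | ⟨h0, h1⟩
      · refine ⟨b, hbb, by rw [← hgz, hf.add_left, hf.smul_left, hf.smul_left, hab, hbb]; ring,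
          ne_zero_comm hf fun e => hline ⟨?_, e⟩, ?_⟩
        · rw [h1, e] at hgw0; simpa using hgw0
        · have h := ush_expand hf haa hbb hab α β 0 1 1
          rw [zero_smul, zero_add, one_smul, hgz] at h
          rw [h]
          simpa [hβ', uTv, tvGL_zero_right] using hab' _
      · refine ⟨a, haa, by
            rw [← hgz, hf.add_left, hf.smul_left, hf.smul_left, eq_zero_comm hf hab, haa]; ring,
          ne_zero_comm hf fun e => hline ⟨e, ?_⟩, ?_⟩
        · rw [h0, h1] at hgw0; simpa using hgw0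
        · rw [← hgz, h0, h1, zero_smul, zero_add, one_smul]
          exact hM.symm.ush_mem P.symm hb ha (eq_zero_comm hf hab) 1
    obtain ⟨k, hk, hkσ, hT⟩ :=
      Pair.transvection_of_two hf hgzz hvv hgww hzv hgzw hvw one_ne_zero hvM key
    rw [← hgz, uTv_expand hf haa hbb hab α β hkσ, mul_assoc, M.mul_mem_cancel_left (hab' _)] at hT
    refine transvection_of_pair P hM hβ ha ha0 hb hb0 hab ?_ ?_ ?_ hT
    · simp [hkσ, hα, neg_mul]
    · simp [hkσ, hβ', neg_mul]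
    · rcases hαβ with h1 | ⟨-, h1⟩
      · left; simp [h1, hk]
      · right; simp [h1, hk]
  -- the whole line is sent to a line of the stabiliser
  obtain ⟨γ, δ, hgw'⟩ : ∃ γ δ : F, γ • a + δ • b = gw := by
    obtain ⟨a', ha', b', hb', e⟩ := P.split gw
    obtain ⟨γ, rfl⟩ := Submodule.mem_span_singleton.1 (P.mem_span_of_orth ha ha0 hb hb0 hab ha' (by
      have h : f gw b = 0 := hline.2
      rwa [← e, hf.add_left, P.tsB b' hb' b hb, add_zero] at h))
    obtain ⟨δ, rfl⟩ := Submodule.mem_span_singleton.1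
      (P.symm.mem_span_of_orth hb hb0 ha ha0 (eq_zero_comm hf hab) hb' (by
      have h : f gw a = 0 := hline.1
      rwa [← e, hf.add_left, P.tsA _ ha' a ha, zero_add] at h))
    exact ⟨γ, δ, e⟩
  have hTT : ∀ c, uTv hf a (c * α * γ - σ (c * α * γ)) * uTv hf b (c * β * δ - σ (c * β * δ)) ∈ M :=
    fun c => by
      have h := key c
      rw [← hgz, ← hgw', ush_expand hf haa hbb hab α β γ δ c, mul_assoc,
        M.mul_mem_cancel_left (hab' _), hα, hβ'] at h
      exact h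
  have hskew : ∀ x : F, σ (x - σ x) = -(x - σ x) := fun x => by
    rw [map_sub, hf.involutive, neg_sub]
  by_cases h1 : α * γ = 0
  swap
  · obtain ⟨c, -, hc⟩ := Pair.exists_sub_conj_ne_zero hf h1
    exact transvection_of_pair P hM hβ ha ha0 hb hb0 hab (hskew _) (hskew _)
      (Or.inl (by rwa [mul_assoc])) (hTT c)
  by_cases h2 : β * δ = 0
  swap
  · obtain ⟨c, -, hc⟩ := Pair.exists_sub_conj_ne_zero hf h2
    exact transvection_of_pair P hM hβ ha ha0 hb hb0 hab (hskew _) (hskew _)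
      (Or.inr (by rwa [mul_assoc])) (hTT c)
  rcases hαβ with hα1 | ⟨hα0, hβ1⟩
  · have hγ : γ = 0 := by simpa [hα1] using h1
    have hδ : δ ≠ 0 := fun e => gl_mulVec_ne_zero g hw0 (by rw [← hgwdef, ← hgw', hγ, e]; simp)
    have hβ0 : β = 0 := by simpa [hδ] using h2
    exact transvection_of_aligned P hM hβ hg hgK hgA hz hz0 hw hw0 hzw
      (by rw [← hgzdef, ← hgz, hβ0, zero_smul, add_zero]; exact A.smul_mem _ ha)
      (by rw [← hgwdef, ← hgw', hγ, zero_smul, zero_add]; exact B.smul_mem _ hb)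
  · have hδ : δ = 0 := by simpa [hβ1] using h2
    refine transvection_of_aligned P hM hβ (M.mul_mem hs hg) (mul_mem hsK hgK) ?_ hz hz0 hw hw0 hzw
      (by rw [gl_mulVec_mul, ← hgzdef, ← hgz, hα0, zero_smul, zero_add]
          exact hsB _ (B.smul_mem _ hb))
      (by rw [gl_mulVec_mul, ← hgwdef, ← hgw', hδ, zero_smul, add_zero]
          exact hsA _ (A.smul_mem _ ha))
    rintro ⟨hA', hB'⟩
    have back : ∀ {C D : Submodule F (ι → F)}, IsPair σ f C D →
        (∀ v ∈ C, (s : Matrix ι ι F) *ᵥ v ∈ D) → (∀ v ∈ D, (s : Matrix ι ι F) *ᵥ v ∈ C) →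
        ∀ v, (s : Matrix ι ι F) *ᵥ v ∈ C → v ∈ D := by
      intro C D Q h1 h2 v hv
      obtain ⟨c, hc, d, hd, rfl⟩ := Q.split v
      rw [mulVec_add] at hv
      have : (s : Matrix ι ι F) *ᵥ c ∈ C ⊓ D :=
        ⟨(C.add_mem_iff_left (h2 d hd)).1 hv, h1 c hc⟩
      rw [Q.disj, Submodule.mem_bot] at this
      have hc0 : c = 0 := gl_mulVec_injective s (by beta_reduce; rw [this, mulVec_zero])
      rwa [hc0, zero_add]
    exact hgB ⟨fun x hx => back P hsA hsB _ (by rw [← gl_mulVec_mul]; exact hA' x hx),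
      fun y hy => back P.symm hsB hsA _ (by rw [← gl_mulVec_mul]; exact hB' y hy)⟩

/-- An isometry of determinant one interchanging the two subspaces. -/
lemma IsPair.exists_swap (P : IsPair σ f A B) :
    ∃ s ∈ isoOf f ⊓ specialLinear ι F, (∀ a ∈ A, (s : Matrix ι ι F) *ᵥ a ∈ B) ∧
      (∀ b ∈ B, (s : Matrix ι ι F) *ᵥ b ∈ A) := by
  classical
  have hf := P.hf
  obtain ⟨τ, hτ0, hτ⟩ := exists_trace_zero hf.ne_refl hf.involutive
  have hτ' : σ (-τ⁻¹) = -(-τ⁻¹) := by rw [map_neg, map_inv₀, hτ, inv_neg]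
  let e := Module.finBasis F A
  have hdual : ∀ i, ∃ b ∈ B, ∀ j, f (e j : ι → F) b = if j = i then 1 else 0 := by
    intro i
    obtain ⟨z, hz⟩ := exists_pairing hf (v := fun j => (e j : ι → F))
      (e.linearIndependent.map' A.subtype (Submodule.ker_subtype _))
      (fun j => if j = i then 1 else 0)
    obtain ⟨a, ha, b, hb, rfl⟩ := P.split z
    refine ⟨b, hb, fun j => ?_⟩
    rw [← hz j, add_right hf, P.tsA _ (e j).2 a ha, zero_add]
  choose d hdB hd using hdual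
  have hde : ∀ i j, f (d i) (e j : ι → F) = if j = i then 1 else 0 := fun i j => by
    rw [hf.herm, hd]; split_ifs <;> simp
  have hdli : LinearIndependent F d := by
    refine Fintype.linearIndependent_iff.2 fun c hc j => ?_
    have h := congrArg (formL hf (e j : ι → F)) hc
    simpa [hde, zero_left hf] using h
  -- B is spanned by the dual vectors
  have hspanB : ∀ b ∈ B, b ∈ Submodule.span F (Set.range d) := by
    intro b hb
    rw [Submodule.eq_of_le_of_finrank_eq (Submodule.span_le.2 (Set.range_subset_iff.2 hdB))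
      (by rw [finrank_span_eq_card hdli, Fintype.card_fin, P.dimB, P.dimA])]
    exact hb
  -- interchange the pairs in a given set
  have key : ∀ t : Finset (Fin (Module.finrank F A)), ∃ s ∈ isoOf f ⊓ specialLinear ι F,
      ∀ i, (s : Matrix ι ι F) *ᵥ (e i : ι → F) = (if i ∈ t then -τ⁻¹ • d i else (e i : ι → F)) ∧
        (s : Matrix ι ι F) *ᵥ d i = (if i ∈ t then τ • (e i : ι → F) else d i) := by
    intro t
    induction t using Finset.induction with
    | empty => exact ⟨1, one_mem _, fun i => by simp⟩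
    | insert j t hj ih =>
      obtain ⟨s, hs, hs'⟩ := ih
      have hee := P.tsA _ (e j).2 _ (e j).2
      have hdd := P.tsB _ (hdB j) _ (hdB j)
      set w := uTv hf (e j : ι → F) τ * uTv hf (d j) (-τ⁻¹) * uTv hf (e j : ι → F) τ with hw
      have hwm : w ∈ isoOf f ⊓ specialLinear ι F := mul_mem (mul_mem
        ⟨uTv_mem_isoOf hf hee hτ, uTv_mem_sl hf _ _⟩ ⟨uTv_mem_isoOf hf hdd hτ', uTv_mem_sl hf _ _⟩)
        ⟨uTv_mem_isoOf hf hee hτ, uTv_mem_sl hf _ _⟩
      have hwe : (w : Matrix ι ι F) *ᵥ (e j : ι → F) = -τ⁻¹ • d j := by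
        simp only [hw, gl_mulVec_mul, uTv_mulVec hf hee, uTv_mulVec hf hdd, hee, hd, hde, if_true,
          hf.add_left, hf.smul_left, mul_zero, zero_smul, add_zero, zero_add, mul_one]
        match_scalars <;> field_simp <;> ring
      have hwd : (w : Matrix ι ι F) *ᵥ d j = τ • (e j : ι → F) := by
        simp only [hw, gl_mulVec_mul, uTv_mulVec hf hee, uTv_mulVec hf hdd, hee, hdd, hd, hde,
          if_true, hf.add_left, hf.smul_left, mul_zero, add_zero, zero_add, mul_one]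
        match_scalars <;> field_simp <;> ring
      have hwf : ∀ z, f z (e j : ι → F) = 0 → f z (d j) = 0 → (w : Matrix ι ι F) *ᵥ z = z :=
        fun z h1 h2 => by
          rw [hw, gl_mulVec_mul, gl_mulVec_mul, uTv_mulVec_of_orth hf hee _ h1,
            uTv_mulVec_of_orth hf hdd _ h2, uTv_mulVec_of_orth hf hee _ h1]
      refine ⟨w * s, mul_mem hwm hs, fun i => ?_⟩
      rw [gl_mulVec_mul w s, gl_mulVec_mul w s, (hs' i).1, (hs' i).2]
      by_cases hij : i = j
      · subst hij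
        rw [if_neg hj, if_neg hj, if_pos (Finset.mem_insert_self _ _),
          if_pos (Finset.mem_insert_self _ _)]
        exact ⟨hwe, hwd⟩
      have hfe : (w : Matrix ι ι F) *ᵥ (e i : ι → F) = e i :=
        hwf _ (P.tsA _ (e i).2 _ (e j).2) (by rw [hd, if_neg hij])
      have hfd : (w : Matrix ι ι F) *ᵥ d i = d i :=
        hwf _ (by rw [hde, if_neg (Ne.symm hij)]) (P.tsB _ (hdB i) _ (hdB j))
      simp only [Finset.mem_insert, hij, false_or]
      split_ifs <;> simp [mulVec_smul, neg_mulVec, mulVec_neg, hfe, hfd]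
  obtain ⟨s, hs, hs'⟩ := key Finset.univ
  refine ⟨s, hs, fun a ha => ?_, fun b hb => ?_⟩
  · rw [show a = ((∑ i, e.repr ⟨a, ha⟩ i • e i : A) : ι → F) by rw [e.sum_repr],
      Submodule.coe_sum, mulVec_sum]
    refine Submodule.sum_mem _ fun i _ => ?_
    rw [Submodule.coe_smul, mulVec_smul, (hs' i).1, if_pos (Finset.mem_univ i)]
    exact B.smul_mem _ (B.smul_mem _ (hdB i))
  · obtain ⟨c, rfl⟩ := (Submodule.mem_span_range_iff_exists_fun F).1 (hspanB b hb)
    rw [mulVec_sum]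
    refine Submodule.sum_mem _ fun i _ => ?_
    rw [mulVec_smul, (hs' i).2, if_pos (Finset.mem_univ i)]
    exact A.smul_mem _ (A.smul_mem _ (e i).2)

theorem pair_stabilizer_maximal (P : IsPair σ f A B) (hn : 4 ≤ Fintype.card ι)
    (hβ : ∃ β : F, β ≠ 0 ∧ σ β = β ∧ β * β ≠ 1)
    {D : Fin 2 → Submodule F (ι → F)} (hA : D 0 = A) (hB : D 1 = B) :
    IsMaximalIn (isoOf f ⊓ specialLinear ι F)
      (decompositionStabilizer D ⊓ (isoOf f ⊓ specialLinear ι F)) := by
  classical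
  have hf := P.hf
  have hmap : ∀ (g : GL ι F) (U W : Submodule F (ι → F)),
      Module.finrank F U = Module.finrank F W → (∀ x ∈ U, (g : Matrix ι ι F) *ᵥ x ∈ W) →
      U.map (Matrix.toLin' (g : Matrix ι ι F)) = W := by
    intro g U W e h
    refine Submodule.eq_of_le_of_finrank_eq
      (Submodule.map_le_iff_le_comap.2 fun x hx => by simpa using h x hx) ?_
    rw [← e]
    exact (LinearEquiv.finrank_eq (Submodule.equivMapOfInjective _ (fun a b h =>
      gl_mulVec_injective g (by simpa using h)) U)).symm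
  set H := decompositionStabilizer D ⊓ (isoOf f ⊓ specialLinear ι F)
  have hstab : ∀ g ∈ isoOf f ⊓ specialLinear ι F, (∀ a ∈ A, (g : Matrix ι ι F) *ᵥ a ∈ A) →
      (∀ b ∈ B, (g : Matrix ι ι F) *ᵥ b ∈ B) → g ∈ H := by
    intro g hg h1 h2
    refine ⟨⟨1, fun i => ?_⟩, hg⟩
    fin_cases i
    · simp only [Fin.zero_eta, hA, Equiv.Perm.one_apply]
      exact hmap g A A rfl h1
    · simp only [Fin.mk_one, hB, Equiv.Perm.one_apply]
      exact hmap g B B rfl h2
  have hswap : ∀ g ∈ isoOf f ⊓ specialLinear ι F, (∀ a ∈ A, (g : Matrix ι ι F) *ᵥ a ∈ B) →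
      (∀ b ∈ B, (g : Matrix ι ι F) *ᵥ b ∈ A) → g ∈ H := by
    intro g hg h1 h2
    refine ⟨⟨Equiv.swap 0 1, fun i => ?_⟩, hg⟩
    fin_cases i
    · simp only [Fin.zero_eta, hA, Equiv.swap_apply_left, hB]
      exact hmap g A B (P.dimA.trans P.dimB.symm) h1
    · simp only [Fin.mk_one, hB, Equiv.swap_apply_right, hA]
      exact hmap g B A (P.dimB.trans P.dimA.symm) h2
  obtain ⟨τ, hτ0, hτ⟩ := exists_trace_zero hf.ne_refl hf.involutive
  refine isMaximalIn_of inf_le_right ?_ ?_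
  · obtain ⟨a, ha, ha0⟩ := Submodule.exists_mem_ne_zero_of_ne_bot (p := A) fun h => by
      have := P.dimA; rw [h, finrank_bot] at this; omega
    obtain ⟨b, hb, hab⟩ := P.exists_ne ha ha0
    have hbb := P.tsB b hb b hb
    refine ⟨uTv hf b τ, ⟨uTv_mem_isoOf hf hbb hτ, uTv_mem_sl hf _ _⟩, fun h => ?_⟩
    obtain ⟨π, hπ⟩ := h.1
    have h1 : (uTv hf b τ : Matrix ι ι F) *ᵥ a ∈ D (π 0) := by
      rw [← hπ 0, hA]; exact ⟨a, ha, Matrix.toLin'_apply _ _⟩
    rw [uTv_mulVec hf hbb] at h1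
    rcases (by omega : π 0 = 0 ∨ π 0 = 1) with e | e
    · rw [e, hA, A.add_mem_iff_right ha] at h1
      have hbA : b ∈ A := by
        have := A.smul_mem (τ * f a b)⁻¹ h1
        rwa [smul_smul, inv_mul_cancel₀ (mul_ne_zero hτ0 hab), one_smul] at this
      exact hab (P.tsA a ha b hbA)
    · rw [e, hB, B.add_mem_iff_left (B.smul_mem _ hb)] at h1
      exact ha0 ((Submodule.mem_bot F).1 (P.disj ▸ ⟨ha, h1⟩))
  intro M hHM hMK g hgM hgH
  have hgi := (hMK hgM).1
  have hM : Stab f A B M := fun h hh h1 h2 => hHM (hstab h hh h1 h2)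
  obtain ⟨s, hs, hsA, hsB⟩ := P.exists_swap
  have hsH : s ∈ H := hswap s hs hsA hsB
  obtain ⟨p, hp, hp0, k, hk, hkσ, hpk⟩ :
      ∃ p, (p ∈ A ∨ p ∈ B) ∧ p ≠ 0 ∧ ∃ k : F, k ≠ 0 ∧ σ k = -k ∧ uTv hf p k ∈ M :=
    exists_transvection P hM hβ hgM (hMK hgM)
      (fun h => hgH (hstab g (hMK hgM) h.1 h.2)) (hHM hsH) hs hsA hsB
      (fun h => hgH (hswap g (hMK hgM) h.1 h.2))
  obtain ⟨p, hp, hp0, hpk⟩ : ∃ p ∈ A, p ≠ 0 ∧ uTv hf p k ∈ M := by
    rcases hp with hp | hp
    · exact ⟨p, hp, hp0, hpk⟩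
    · refine ⟨(s : Matrix ι ι F) *ᵥ p, hsB p hp, gl_mulVec_ne_zero s hp0, ?_⟩
      rw [← uTv_conj hf hs.1 (P.tsB p hp p hp)]
      exact M.mul_mem (M.mul_mem (hHM hsH) hpk) (M.inv_mem (hHM hsH))
  -- transitivity on `A`
  have hmove : ∀ q ∈ A, q ≠ 0 → uTv hf q k ∈ M → ∀ a ∈ A, a ∉ Submodule.span F {q} →
      uTv hf a k ∈ M := by
    intro q hq hq0 hqk a ha hna
    have hn : q ∉ Submodule.span F (Set.range ![a - q]) := by
      rw [Matrix.range_cons, Matrix.range_empty, Set.union_empty]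
      intro hmem
      obtain ⟨r, hr⟩ := Submodule.mem_span_singleton.1 hmem
      have hr0 : r ≠ 0 := fun e => hq0 (by rw [← hr, e, zero_smul])
      exact hna (Submodule.mem_span_singleton.2 ⟨1 + r⁻¹, by
        rw [add_smul, one_smul]
        nth_rewrite 2 [← hr]
        rw [smul_smul, inv_mul_cancel₀ hr0, one_smul]; abel⟩)
    obtain ⟨b, hb, h1, h2'⟩ := P.symm.sep hq ![a - q] (by
      intro i; fin_cases i; exact A.sub_mem ha hq) hn
    have hba : f b (a - q) = 0 := eq_zero_comm hf (h2' 0)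
    have hbb := P.tsB b hb b hb
    have hh : ush hf b (a - q) 1 ∈ M := hM.symm.ush_mem P.symm hb (A.sub_mem ha hq) hba 1
    have := M.mul_mem (M.mul_mem hh hqk) (M.inv_mem hh)
    rwa [uTv_conj hf (ush_mem_isoOf hf hbb (P.tsA _ (A.sub_mem ha hq) _ (A.sub_mem ha hq)) hba 1)
      (P.tsA q hq q hq), ush_mulVec hf hbb hba, h1, P.tsA q hq _ (A.sub_mem ha hq), one_mul,
      one_smul, mul_zero, zero_smul, sub_zero, add_sub_cancel] at this
  have hall : ∀ a ∈ A, a ≠ 0 → uTv hf a k ∈ M := by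
    intro a ha ha0
    by_cases hsp : a ∈ Submodule.span F {p}
    · obtain ⟨a', ha', ha's⟩ := P.exists_notMem p
      refine hmove a' ha' (fun e => ha's (by rw [e]; exact zero_mem _)) (hmove p hp hp0 hpk a' ha' ha's)
        a ha fun hmem => ha's ?_
      obtain ⟨r, hr⟩ := Submodule.mem_span_singleton.1 hmem
      have hr0 : r ≠ 0 := fun e => ha0 (by rw [← hr, e, zero_smul])
      rwa [← hr, Submodule.smul_mem_iff _ hr0] at hsp
    · exact hmove p hp hp0 hpk a ha hsp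
  have hAS : ∀ a ∈ A, a ∈ uSet hf M := by
    intro a ha
    refine ⟨P.tsA a ha a ha, fun c hc => ?_⟩
    have h1 : ∀ {v : ι → F}, uTv hf v (0 : F) = 1 := fun {v} => by
      rw [uTv, zero_smul, tvGL_zero_right]
    by_cases ha0 : a = 0
    · rw [ha0, uTv, tvGL_zero_left]; exact M.one_mem
    obtain ⟨l, hl⟩ := exists_norm_eq hf.ne_refl hf.involutive (s := c / k)
      (by rw [map_div₀, hc, hkσ, neg_div_neg_eq])
    by_cases hl0 : l = 0
    · rw [hl0, zero_mul] at hl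
      rw [show c = 0 by simpa [hk] using hl.symm, h1]
      exact M.one_mem
    have := hall (l • a) (A.smul_mem _ ha) (by simp [hl0, ha0])
    rwa [show uTv hf (l • a) k = uTv hf a c from gl_ext_mulVec fun x => by
      rw [uTv_mulVec hf (by rw [hf.smul_left, smul_right hf, P.tsA a ha a ha, mul_zero, mul_zero]),
        uTv_mulVec hf (P.tsA a ha a ha), smul_right hf, smul_smul]
      congr 2
      have hc' : c = k * (l * σ l) := by rw [hl]; field_simp
      rw [hc']; ring] at this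
  have hBS : ∀ b ∈ B, b ∈ uSet hf M := by
    intro b hb
    obtain ⟨w, hw, e⟩ : ∃ w ∈ A, (s : Matrix ι ι F) *ᵥ w = b := by
      have := hmap s A B (P.dimA.trans P.dimB.symm) hsA
      rw [← this] at hb
      obtain ⟨w, hw, e⟩ := hb
      exact ⟨w, hw, by simpa using e⟩
    rw [← e]
    exact uSet_mulVec hf (hHM hsH) hs.1 (hAS w hw)
  -- adding along a transvection
  have hadd : ∀ v w : ι → F, v ∈ uSet hf M → w ∈ uSet hf M → ∀ r : F, f v w ≠ 0 →
      σ (r / f v w) = -(r / f v w) → v + r • w ∈ uSet hf M := by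
    intro v w hv hw r hne hr
    have := uSet_mulVec hf (hw.2 _ hr) (uTv_mem_isoOf hf hw.1 hr) hv
    rwa [uTv_mulVec hf hw.1, div_mul_cancel₀ _ hne] at this
  refine iso_inf_sl_le_four hf hn fun v c hv hc => ?_
  suffices hvS : v ∈ uSet hf M from hvS.2 c hc
  obtain ⟨a, ha, b, hb, rfl⟩ := P.split v
  have htr : σ (f a b) = -f a b := by
    rw [hf.add_left, add_right hf, add_right hf, P.tsA a ha a ha, P.tsB b hb b hb, hf.herm b a] at hv
    linear_combination hv
  by_cases hab : f a b = 0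
  swap
  · simpa using hadd a b (hAS a ha) (hBS b hb) 1 hab
      (by rw [map_div₀, map_one, htr, div_neg])
  by_cases hb0 : b = 0
  · rw [hb0, add_zero]; exact hAS a ha
  obtain ⟨a₀, ha₀, hne⟩ := P.symm.exists_ne hb hb0
  set a' := σ (τ / f b a₀) • a₀ with ha'def
  have ha'A : a' ∈ A := A.smul_mem _ ha₀
  have hba' : f b a' = τ := by
    rw [ha'def, smul_right hf, hf.involutive, div_mul_cancel₀ _ hne]
  have ha'b : f a' b = -τ := by rw [hf.herm, hba', hτ]
  have h1 := hadd (a + a') b (hAS _ (A.add_mem ha ha'A)) (hBS b hb) 1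
    (by rw [hf.add_left, hab, zero_add, ha'b]; exact neg_ne_zero.2 hτ0)
    (by rw [hf.add_left, hab, zero_add, ha'b, map_div₀, map_one, map_neg, hτ]; ring)
  rw [one_smul] at h1
  have hval : f (a + a' + b) a' = τ := by
    rw [hf.add_left, hf.add_left, P.tsA a ha a' ha'A, P.tsA a' ha'A a' ha'A, hba']; ring
  have h3 := hadd _ a' h1 (hAS a' ha'A) (-1) (by rw [hval]; exact hτ0)
    (by rw [hval, map_div₀, map_neg, map_one, hτ]; ring)
  convert h3 using 1
  module

/-- A fixed element of the Frobenius with square different from one. -/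
lemma exists_fixed_sq_ne_one {F : Type*} [Field F] [Fintype F] [DecidableEq F] {σ : F ≃+* F} {q : ℕ}
    (hF : Fintype.card F = q ^ 2) (hσ : ∀ x, σ x = x ^ q) (hq : 4 ≤ q) :
    ∃ β : F, β ≠ 0 ∧ σ β = β ∧ β * β ≠ 1 := by
  obtain ⟨g, hg⟩ := IsCyclic.exists_generator (α := Fˣ)
  have ho : orderOf g + 1 = q * q := by
    rw [orderOf_eq_card_of_forall_mem_zpowers hg, Nat.card_eq_fintype_card, Fintype.card_units, hF]
    have : 1 ≤ q ^ 2 := Nat.one_le_pow _ _ (by omega)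
    rw [sq] at this ⊢
    omega
  refine ⟨((g ^ (q + 1) : Fˣ) : F), Units.ne_zero _, ?_, fun e => ?_⟩
  · rw [hσ, ← Units.val_pow_eq_pow_val, ← pow_mul, show (q + 1) * q = orderOf g + (q + 1) by
      rw [add_mul, one_mul]; omega, pow_add, pow_orderOf_eq_one, one_mul]
  · have e' : g ^ ((q + 1) + (q + 1)) = 1 := Units.ext (by rw [pow_add, Units.val_mul, e]; simp)
    have h1 := Nat.le_of_dvd (by omega) (orderOf_dvd_of_pow_eq_one e')
    nlinarith [hq]

end CfsgLib.ClassicalMax.Unit.PairFour
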